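import Groth.Agent.L27.LimCoh.HMaps

/-! # Composing pullbacks on cohomology -/

universe u

open CategoryTheory CategoryTheory.Limits AlgebraicGeometry Opposite

set_option backward.isDefEq.respectTransparency.types false
set_option linter.style.haveILetI false
set_option linter.unusedSectionVars false

namespace Groth.L27.LimCoh

variable {X Y Z : Scheme.{u}} (f : Z ⟶ Y) (g : Y ⟶ X) {k : Z ⟶ X} (w : f ≫ g = k)

/-- The comparison of inverse images along a composite. -/
noncomputable def gamma (F : EtCoh.Ab X) :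
    (EtCoh.pull k).obj F ⟶ (EtCoh.pull f).obj ((EtCoh.pull g).obj F) :=
  ((EtCoh.pullPushAdj k).homEquiv _ _).symm ((EtCoh.pullPushAdj g).unit.app F ≫
    (EtCoh.push g).map ((EtCoh.pullPushAdj f).unit.app ((EtCoh.pull g).obj F)) ≫ pushJoin f g w _)

theorem homEquiv_gamma_comp (F : EtCoh.Ab X) {G : EtCoh.Ab Y} {M : EtCoh.Ab Z}
    (ψ₁ : F ⟶ (EtCoh.push g).obj G) (ψ₂ : G ⟶ (EtCoh.push f).obj M) :
    (EtCoh.pullPushAdj k).homEquiv _ _ (gamma f g w F ≫
      (EtCoh.pull f).map (((EtCoh.pullPushAdj g).homEquiv _ _).symm ψ₁) ≫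
        ((EtCoh.pullPushAdj f).homEquiv _ _).symm ψ₂) =
      ψ₁ ≫ (EtCoh.push g).map ψ₂ ≫ pushJoin f g w M := by
  rw [Adjunction.homEquiv_naturality_right, gamma, Equiv.apply_symm_apply]
  simp only [Category.assoc]
  rw [← pushJoin_naturality, ← Category.assoc ((EtCoh.push g).map _), ← Functor.map_comp,
    ← Adjunction.homEquiv_unit, Adjunction.homEquiv_naturality_left, Equiv.apply_symm_apply, Functor.map_comp,
    Category.assoc, ← Category.assoc ((EtCoh.pullPushAdj g).unit.app F)]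
  exact congrArg (· ≫ _)
    (((EtCoh.pullPushAdj g).homEquiv_unit _ _ _).symm.trans (Equiv.apply_symm_apply _ ψ₁))

theorem gamma_nat {F F' : EtCoh.Ab X} (φ : F ⟶ F') :
    (EtCoh.pull k).map φ ≫ gamma f g w F' = gamma f g w F ≫ (EtCoh.pull f).map ((EtCoh.pull g).map φ) := by
  refine ((EtCoh.pullPushAdj k).homEquiv _ _).injective ?_
  rw [Adjunction.homEquiv_naturality_left, Adjunction.homEquiv_naturality_right, gamma, gamma,
    Equiv.apply_symm_apply, Equiv.apply_symm_apply]
  simp only [Category.assoc]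
  rw [← pushJoin_naturality, ← Category.assoc ((EtCoh.push g).map ((EtCoh.pullPushAdj f).unit.app ((EtCoh.pull g).obj F))),
    ← Functor.map_comp]
  refine (Category.assoc _ _ _).symm.trans ((congrArg (· ≫ _)
    ((EtCoh.pullPushAdj g).unit.naturality φ)).trans ((Category.assoc _ _ _).trans (congrArg (_ ≫ ·) ?_)))
  refine (Category.assoc _ _ _).symm.trans (congrArg (· ≫ _) ?_)
  refine ((EtCoh.push g).map_comp _ _).symm.trans (congrArg (EtCoh.push g).map ?_)
  exact (EtCoh.pullPushAdj f).unit.naturality ((EtCoh.pull g).map φ)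

/-- The morphism of short complexes given by the comparison. -/
noncomputable def gammaMap (E : ShortComplex (EtCoh.Ab X)) :
    E.map (EtCoh.pull k) ⟶ (E.map (EtCoh.pull g)).map (EtCoh.pull f) :=
  ShortComplex.homMk (gamma f g w E.X₁) (gamma f g w E.X₂) (gamma f g w E.X₃) (gamma_nat f g w E.f).symm
    (gamma_nat f g w E.g).symm

variable [PreservesFiniteLimits (EtCoh.pull f)] [PreservesFiniteLimits (EtCoh.pull g)]
  [PreservesFiniteLimits (EtCoh.pull k)]

theorem Hpull_comp_zero (F : EtCoh.Ab X) (e : EtCoh.H X F 0) :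
    EtCore.Hpull f _ 0 (EtCore.Hpull g F 0 e) = (EtCoh.HF Z 0).map (gamma f g w F) (EtCore.Hpull k F 0 e) := by
  have hs : ∀ {A B : Scheme.{u}} (h : A ⟶ B) [PreservesFiniteLimits (EtCoh.pull h)] (G : EtCoh.Ab B)
      (x : EtCoh.H B G 0), secEq _ (EtCore.Hpull h G 0 x) = ((EtCoh.pull h).obj G).obj.map
        (EtCore.bcTopIso h).inv.op (((EtCoh.pullPushAdj h).unit.app G).hom.app (op (EtCoh.top B)) (secEq G x)) := by
    intro A B h _ G x
    rw [EtSite.Hpull_apply, secEq_HofPush, ← EtSite.HF_map_apply, secEq_map]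
  refine (secEq _).injective ?_
  rw [secEq_map]
  refine (hs f _ _).trans ?_
  refine (congrArg (fun z => ((EtCoh.pull f).obj ((EtCoh.pull g).obj F)).obj.map _
    (((EtCoh.pullPushAdj f).unit.app ((EtCoh.pull g).obj F)).hom.app _ z)) (hs g F e)).trans ?_
  refine Eq.trans ?_ (congrArg ((gamma f g w F).hom.app _) (hs k F e)).symm
  refine Eq.trans ?_ (NatTrans.naturality_apply (gamma f g w F).hom (EtCore.bcTopIso k).inv.op _).symm
  have hg : (gamma f g w F).hom.app (op ((EtCoh.bc k).obj (EtCoh.top X)))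
      (((EtCoh.pullPushAdj k).unit.app F).hom.app (op (EtCoh.top X)) (secEq F e)) =
      ((EtCoh.pull f).obj ((EtCoh.pull g).obj F)).obj.map ((join f g w).app (EtCoh.top X)).op
        (((EtCoh.pullPushAdj f).unit.app ((EtCoh.pull g).obj F)).hom.app (op ((EtCoh.bc g).obj (EtCoh.top X)))
          (((EtCoh.pullPushAdj g).unit.app F).hom.app (op (EtCoh.top X)) (secEq F e))) :=
    congrArg (fun m : F ⟶ (EtCoh.push k).obj ((EtCoh.pull f).obj ((EtCoh.pull g).obj F)) =>
      m.hom.app (op (EtCoh.top X)) (secEq F e))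
      (((EtCoh.pullPushAdj k).homEquiv_unit F _ (gamma f g w F)).symm.trans
        (Equiv.apply_symm_apply ((EtCoh.pullPushAdj k).homEquiv F _) _))
  refine Eq.trans ?_ (congrArg (((EtCoh.pull f).obj ((EtCoh.pull g).obj F)).obj.map _) hg).symm
  refine (congrArg (((EtCoh.pull f).obj ((EtCoh.pull g).obj F)).obj.map _)
    (NatTrans.naturality_apply ((EtCoh.pullPushAdj f).unit.app ((EtCoh.pull g).obj F)).hom
      (EtCore.bcTopIso g).inv.op _)).trans ?_
  refine (Functor.map_comp_apply ((EtCoh.pull f).obj ((EtCoh.pull g).obj F)).obj _ _ _).symm.trans ?_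
  refine Eq.trans ?_ (Functor.map_comp_apply ((EtCoh.pull f).obj ((EtCoh.pull g).obj F)).obj _ _ _)
  exact congrArg (fun l => ((EtCoh.pull f).obj ((EtCoh.pull g).obj F)).obj.map (Quiver.Hom.op l)
    (((EtCoh.pullPushAdj f).unit.app ((EtCoh.pull g).obj F)).hom.app (op ((EtCoh.bc g).obj (EtCoh.top X)))
      (((EtCoh.pullPushAdj g).unit.app F).hom.app (op (EtCoh.top X)) (secEq F e))))
    ((IsTerminal.isTerminalObj (EtCoh.bc f) _ (EtCore.bcTopIsTerminal g)).hom_ext _ _)

theorem Hpull_comp (n : ℕ) : ∀ (F : EtCoh.Ab X) (e : EtCoh.H X F n),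
    EtCore.Hpull f _ n (EtCore.Hpull g F n e) = (EtCoh.HF Z n).map (gamma f g w F) (EtCore.Hpull k F n e) := by
  induction n with
  | zero => exact Hpull_comp_zero f g w
  | succ n ih =>
    intro F e
    let E := ShortComplex.mk (Injective.ι F) (cokernel.π _) (cokernel.condition _)
    have hE : E.ShortExact :=
      { exact := ShortComplex.exact_of_g_is_cokernel _ (cokernelIsCokernel _) }
    obtain ⟨y, rfl⟩ := exists_δH hE n e (eq_zero_of_injective (Injective.under F) n _)
    show EtCore.Hpull f _ (n + 1) (EtCore.Hpull g E.X₁ (n + 1) (δH hE n y)) = _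
    rw [Hpull_δH g hE]
    refine (Hpull_δH f (hE.map_of_exact (EtCoh.pull g)) n _).trans ?_
    refine Eq.trans ?_ (congrArg ((EtCoh.HF Z (n + 1)).map (gamma f g w F)) (Hpull_δH k hE n y)).symm
    refine Eq.trans ?_ (map_δH (hE.map_of_exact (EtCoh.pull k))
      ((hE.map_of_exact (EtCoh.pull g)).map_of_exact (EtCoh.pull f)) (gammaMap f g w E) n _).symm
    exact congrArg (δH _ n) (ih E.X₃ y)

/-- Composition of pullback maps with coefficient morphisms. -/
theorem HpullThen_comp (F : EtCoh.Ab X) {G : EtCoh.Ab Y} {M : EtCoh.Ab Z} (ψ₁ : F ⟶ (EtCoh.push g).obj G)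
    (ψ₂ : G ⟶ (EtCoh.push f).obj M) (ψ : F ⟶ (EtCoh.push k).obj M)
    (h : ψ = ψ₁ ≫ (EtCoh.push g).map ψ₂ ≫ pushJoin f g w M) (n : ℕ) (e : EtCoh.H X F n) :
    EtLim.HpullThen f G (((EtCoh.pullPushAdj f).homEquiv _ _).symm ψ₂) n
        (EtLim.HpullThen g F (((EtCoh.pullPushAdj g).homEquiv _ _).symm ψ₁) n e) =
      EtLim.HpullThen k F (((EtCoh.pullPushAdj k).homEquiv _ _).symm ψ) n e := by
  rw [HpullThen_apply g, HpullThen_map, HpullThen_apply, Hpull_comp f g w, ← HF_map_comp, HpullThen_apply]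
  refine congrArg (fun z => (EtCoh.HF Z n).map z (EtCore.Hpull k F n e)) ?_
  refine ((EtCoh.pullPushAdj k).homEquiv _ _).injective ?_
  rw [homEquiv_gamma_comp, Equiv.apply_symm_apply, h]

end Groth.L27.LimCoh
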