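import Groth.Agent.L27.LimCoh.Embed
import Groth.Prelude.Def_EtLim

/-! # The system of direct images of a sheaf on the limit -/

universe u

open CategoryTheory CategoryTheory.Limits AlgebraicGeometry Opposite

set_option backward.isDefEq.respectTransparency.types false
set_option linter.style.haveILetI false
set_option linter.unusedSectionVars false
set_option linter.unusedVariables false

namespace Groth.L27.LimCoh

section Lemmas

variable {X Y Z : Scheme.{u}} (f : Z ⟶ Y) (g : Y ⟶ X) {k : Z ⟶ X} (w : f ≫ g = k)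

theorem pushSplit_pushJoin (F : EtCoh.Ab Z) : pushSplit f g w F ≫ pushJoin f g w F = 𝟙 _ := by
  refine sheafHom_ext fun V s => ?_
  refine (Functor.map_comp_apply F.obj _ _ _).symm.trans ((congrArg (fun l => F.obj.map (Quiver.Hom.op l) s)
    (join_split f g w V)).trans ?_)
  exact congr($(F.obj.map_id _) s)

theorem pushCongr_pushComp_inv (F : EtCoh.Ab Z) :
    ((EtCoh.pushCongr w.symm).app F).hom ≫ (EtCoh.pushComp g f).inv.app F = pushSplit f g w F := by
  refine sheafHom_ext fun V s => ?_
  subst w
  simp only [EtCoh.pushCongr, EtCoh.pushComp, Functor.sheafPushforwardContinuousComp',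
    Functor.sheafPushforwardContinuousIso, Functor.sheafPushforwardContinuousComp]
  simp [Functor.sheafPushforwardContinuousNatTrans]
  refine (Functor.map_comp_apply F.obj _ _ _).symm.trans ?_
  refine congrArg (fun l => F.obj.map (Quiver.Hom.op l) s) (bc_hom_ext (f ≫ g) ?_)
  refine Eq.trans ?_ (split_fstB f g rfl V).symm
  simp [MorphismProperty.Over.pullbackComp, MorphismProperty.Over.pullbackCongr, MorphismProperty.Over.isoMk,
    fstB]
  simp [MorphismProperty.Comma.isoMk, Comma.isoMk]
  show (((pullbackLeftPullbackSndIso V.hom g f).hom ≫ 𝟙 _) ≫ 𝟙 _) ≫ pullback.fst V.hom (f ≫ g) = _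
  simp only [Category.comp_id]
  exact pullbackLeftPullbackSndIso_hom_fst V.hom g f

end Lemmas

variable {I : Type u} [SmallCategory I] {D : I ⥤ Scheme.{u}} (c : Cone D) (M : EtCoh.Ab c.pt)

/-- The system of direct images. -/
noncomputable def pushSys : Sys D where
  F i := (EtCoh.push (prj c i)).obj M
  ψ {i j} g := pushSplit (prj c j) (D.map g) (prj_w c g) M
  ψ_id i := pushSplit_unit₀ (prj c i) (D.map (𝟙 i)) (D.map_id i) (prj_w c (𝟙 i)) M
  ψ_comp {i j k} h g :=
    (pushSplit_assoc (prj c k) (D.map h) (D.map g) (prj_w c h) (map_w D h g) (prj_w c g) (prj_w c (h ≫ g)) M).symm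

/-- The sheaf itself receives the system. -/
noncomputable def pushCocn : Cocn (pushSys c M) c where
  M := M
  a i := 𝟙 _
  comm {i j} g :=
    (pushSplit_pushJoin (prj c j) (D.map g) (prj_w c g) M).symm.trans (congrArg (pushSplit _ _ _ M ≫ ·)
      ((Category.id_comp _).symm.trans (congrArg (· ≫ pushJoin _ _ _ M) ((EtCoh.push (D.map g)).map_id _).symm)))

theorem isLim_pushCocn : (pushCocn c M).IsLim where
  rep i V _ _ x := ⟨i, 𝟙 i, M.obj.map (tr c (𝟙 i) V).op x, rfl⟩
  zero i V _ _ s hs := ⟨i, 𝟙 i, (congrArg _ (show s = 0 from hs)).trans (map_zero _)⟩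

end Groth.L27.LimCoh
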