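import Groth.Prelude.Def_EtBase
import Groth.Prelude.Def_EtCore

/-! # Morphisms between iterated base changes on small etale sites -/

universe u

open CategoryTheory CategoryTheory.Limits AlgebraicGeometry Opposite

set_option backward.isDefEq.respectTransparency.types false
set_option linter.style.haveILetI false

namespace Groth.L27.LimCoh

variable {X Y Z : Scheme.{u}}

/-- The projection from a base change, as a morphism of schemes. -/
noncomputable abbrev fstB (f : X ⟶ Y) (V : Y.Etale) : ((EtCoh.bc f).obj V).left ⟶ V.left :=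
  pullback.fst V.hom f

theorem fstB_w (f : X ⟶ Y) (V : Y.Etale) : fstB f V ≫ V.hom = ((EtCoh.bc f).obj V).hom ≫ f :=
  pullback.condition

theorem fstB_nat (f : X ⟶ Y) {U V : Y.Etale} (m : V ⟶ U) :
    ((EtCoh.bc f).map m).left ≫ fstB f U = fstB f V ≫ m.left :=
  (EtCoh.isPullback_bc_map f m).w

/-- A morphism into a base change. -/
noncomputable def lift (f : X ⟶ Y) {T : X.Etale} {V : Y.Etale} (r : T.left ⟶ V.left)
    (h : r ≫ V.hom = T.hom ≫ f) : T ⟶ (EtCoh.bc f).obj V :=
  MorphismProperty.Over.homMk (pullback.lift r T.hom h) (pullback.lift_snd _ _ _)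

theorem lift_fstB (f : X ⟶ Y) {T : X.Etale} {V : Y.Etale} (r : T.left ⟶ V.left)
    (h : r ≫ V.hom = T.hom ≫ f) : (lift f r h).left ≫ fstB f V = r :=
  pullback.lift_fst _ _ _

theorem bc_hom_ext (f : X ⟶ Y) {T : X.Etale} {V : Y.Etale} {a b : T ⟶ (EtCoh.bc f).obj V}
    (h : a.left ≫ fstB f V = b.left ≫ fstB f V) : a = b :=
  MorphismProperty.Over.Hom.ext (pullback.hom_ext h
    ((MorphismProperty.Over.w a).trans (MorphismProperty.Over.w b).symm))

/-- Base change along the identity maps to the identity functor. -/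
noncomputable def unit₀ (f : X ⟶ X) (hf : f = 𝟙 X) : EtCoh.bc f ⟶ 𝟭 X.Etale where
  app V := MorphismProperty.Over.homMk (fstB f V) ((fstB_w f V).trans (by subst hf; exact Category.comp_id _))
  naturality _ _ m := MorphismProperty.Over.Hom.ext (fstB_nat f m)

theorem unit₀_left (f : X ⟶ X) (hf : f = 𝟙 X) (V : X.Etale) : ((unit₀ f hf).app V).left = fstB f V := rfl

variable (f : Z ⟶ Y) (g : Y ⟶ X) {k : Z ⟶ X} (w : f ≫ g = k)

/-- An iterated base change maps to the base change along the composite. -/
noncomputable def split : EtCoh.bc g ⋙ EtCoh.bc f ⟶ EtCoh.bc k where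
  app V := lift k (fstB f ((EtCoh.bc g).obj V) ≫ fstB g V) (by
    rw [Category.assoc, fstB_w g V, ← Category.assoc, fstB_w f ((EtCoh.bc g).obj V), Category.assoc, w]
    rfl)
  naturality U V m := bc_hom_ext k (by
    refine (Category.assoc _ _ _).trans ((congrArg (_ ≫ ·) (lift_fstB _ _ _)).trans ?_)
    refine (Category.assoc _ _ _).symm.trans ((congrArg (· ≫ fstB g V) (fstB_nat f ((EtCoh.bc g).map m))).trans ?_)
    refine (Category.assoc _ _ _).trans ((congrArg (_ ≫ ·) (fstB_nat g m)).trans ?_)
    refine Eq.trans ?_ (Category.assoc _ _ _).symm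
    refine Eq.trans ?_ (congrArg (_ ≫ ·) (fstB_nat k m)).symm
    exact Eq.trans (Category.assoc _ _ _).symm ((congrArg (· ≫ m.left) (lift_fstB _ _ _).symm).trans
      (Category.assoc _ _ _)))

theorem split_fstB (V : X.Etale) :
    ((split f g w).app V).left ≫ fstB k V = fstB f ((EtCoh.bc g).obj V) ≫ fstB g V :=
  lift_fstB _ _ _

/-- The middle projection of a base change along a composite. -/
noncomputable def midB (V : X.Etale) : ((EtCoh.bc k).obj V).left ⟶ ((EtCoh.bc g).obj V).left :=
  pullback.lift (fstB k V) (((EtCoh.bc k).obj V).hom ≫ f) (by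
    rw [fstB_w, Category.assoc, w])

theorem midB_fstB (V : X.Etale) : midB f g w V ≫ fstB g V = fstB k V := pullback.lift_fst _ _ _

theorem midB_w (V : X.Etale) : midB f g w V ≫ ((EtCoh.bc g).obj V).hom = ((EtCoh.bc k).obj V).hom ≫ f :=
  pullback.lift_snd _ _ _

theorem hom_ext_bc_bc {T : Z.Etale} {V : X.Etale} {a b : T ⟶ (EtCoh.bc f).obj ((EtCoh.bc g).obj V)}
    (h : a ≫ (split f g w).app V = b ≫ (split f g w).app V) : a = b := by
  refine bc_hom_ext f (pullback.hom_ext ?_ ?_)
  · have h' := congrArg (fun m : T ⟶ (EtCoh.bc k).obj V => m.left ≫ fstB k V) h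
    refine Eq.trans (Category.assoc _ _ _) (Eq.trans ?_ (Category.assoc _ _ _).symm)
    exact ((Category.assoc _ _ _).trans (congrArg (_ ≫ ·) (split_fstB f g w V))).symm.trans
      (h'.trans ((Category.assoc _ _ _).trans (congrArg (_ ≫ ·) (split_fstB f g w V))))
  · refine (Category.assoc _ _ _).trans (Eq.trans ?_ (Category.assoc _ _ _).symm)
    refine (congrArg (_ ≫ ·) (fstB_w f ((EtCoh.bc g).obj V))).trans (Eq.trans ?_
      (congrArg (_ ≫ ·) (fstB_w f ((EtCoh.bc g).obj V))).symm)
    refine (Category.assoc _ _ _).symm.trans (Eq.trans ?_ (Category.assoc _ _ _))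
    exact congrArg (· ≫ f) ((MorphismProperty.Over.w a).trans (MorphismProperty.Over.w b).symm)

/-- The component of the inverse comparison. -/
noncomputable def joinApp (V : X.Etale) :
    (EtCoh.bc k).obj V ⟶ (EtCoh.bc f).obj ((EtCoh.bc g).obj V) :=
  lift f (midB f g w V) (midB_w f g w V)

theorem joinApp_split (V : X.Etale) : joinApp f g w V ≫ (split f g w).app V = 𝟙 _ :=
  bc_hom_ext k ((Category.assoc _ _ _).trans ((congrArg (_ ≫ ·) (split_fstB f g w V)).trans
    ((Category.assoc _ _ _).symm.trans ((congrArg (· ≫ fstB g V) (lift_fstB f _ _)).trans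
      ((midB_fstB f g w V).trans (Category.id_comp _).symm)))))

/-- The base change along a composite maps to the iterated base change. -/
noncomputable def join : EtCoh.bc k ⟶ EtCoh.bc g ⋙ EtCoh.bc f where
  app V := joinApp f g w V
  naturality U V m := hom_ext_bc_bc f g w (by
    rw [Category.assoc, joinApp_split, Category.comp_id, Category.assoc, (split f g w).naturality m,
      ← Category.assoc, joinApp_split, Category.id_comp])

theorem join_fstB (V : X.Etale) : ((join f g w).app V).left ≫ fstB f ((EtCoh.bc g).obj V) = midB f g w V :=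
  lift_fstB _ _ _

theorem join_split (V : X.Etale) : (join f g w).app V ≫ (split f g w).app V = 𝟙 _ := joinApp_split f g w V

theorem split_join (V : X.Etale) : (split f g w).app V ≫ (join f g w).app V = 𝟙 _ :=
  hom_ext_bc_bc f g w (by rw [Category.assoc, join_split, Category.comp_id]; exact (Category.id_comp _).symm)

theorem eq_comp_join {T : Z.Etale} {V : X.Etale} (a : T ⟶ (EtCoh.bc f).obj ((EtCoh.bc g).obj V))
    (b : T ⟶ (EtCoh.bc k).obj V)
    (h : a.left ≫ fstB f ((EtCoh.bc g).obj V) ≫ fstB g V = b.left ≫ fstB k V) : a = b ≫ (join f g w).app V :=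
  hom_ext_bc_bc f g w ((bc_hom_ext k ((Category.assoc _ _ _).trans
    ((congrArg (_ ≫ ·) (split_fstB f g w V)).trans h))).trans
    ((Category.comp_id b).symm.trans ((congrArg (b ≫ ·) (join_split f g w V).symm).trans
      (Category.assoc _ _ _).symm)))

/-- The comparison of iterated base changes as an isomorphism. -/
noncomputable def splitIso (V : X.Etale) : (EtCoh.bc f).obj ((EtCoh.bc g).obj V) ≅ (EtCoh.bc k).obj V :=
  ⟨(split f g w).app V, (join f g w).app V, split_join f g w V, join_split f g w V⟩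

/-- The morphism to the direct image along the identity. -/
noncomputable def pushUnit₀ (f : X ⟶ X) (hf : f = 𝟙 X) (F : EtCoh.Ab X) : F ⟶ (EtCoh.push f).obj F :=
  ObjectProperty.homMk (Functor.whiskerRight (NatTrans.op (unit₀ f hf)) F.obj)

theorem pushUnit₀_app (f : X ⟶ X) (hf : f = 𝟙 X) (F : EtCoh.Ab X) (V : X.Etale) (s : F.obj.obj (op V)) :
    (pushUnit₀ f hf F).hom.app (op V) s = F.obj.map ((unit₀ f hf).app V).op s := rfl

/-- The direct image along a composite from the iterated one. -/
noncomputable def pushJoin (F : EtCoh.Ab Z) :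
    (EtCoh.push g).obj ((EtCoh.push f).obj F) ⟶ (EtCoh.push k).obj F :=
  ObjectProperty.homMk (Functor.whiskerRight (NatTrans.op (join f g w)) F.obj)

theorem pushJoin_app (F : EtCoh.Ab Z) (V : X.Etale) (s : F.obj.obj (op ((EtCoh.bc f).obj ((EtCoh.bc g).obj V)))) :
    (pushJoin f g w F).hom.app (op V) s = F.obj.map ((join f g w).app V).op s := rfl

/-- The iterated direct image from the one along the composite. -/
noncomputable def pushSplit (F : EtCoh.Ab Z) :
    (EtCoh.push k).obj F ⟶ (EtCoh.push g).obj ((EtCoh.push f).obj F) :=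
  ObjectProperty.homMk (Functor.whiskerRight (NatTrans.op (split f g w)) F.obj)

theorem pushSplit_app (F : EtCoh.Ab Z) (V : X.Etale) (s : F.obj.obj (op ((EtCoh.bc k).obj V))) :
    (pushSplit f g w F).hom.app (op V) s = F.obj.map ((split f g w).app V).op s := rfl

theorem pushJoin_naturality {F G : EtCoh.Ab Z} (φ : F ⟶ G) :
    (EtCoh.push g).map ((EtCoh.push f).map φ) ≫ pushJoin f g w G = pushJoin f g w F ≫ (EtCoh.push k).map φ := by
  refine ObjectProperty.hom_ext _ (NatTrans.ext (funext fun V => ?_))
  exact (φ.hom.naturality ((join f g w).app V.unop).op).symm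

theorem pushSplit_naturality {F G : EtCoh.Ab Z} (φ : F ⟶ G) :
    (EtCoh.push k).map φ ≫ pushSplit f g w G = pushSplit f g w F ≫ (EtCoh.push g).map ((EtCoh.push f).map φ) := by
  refine ObjectProperty.hom_ext _ (NatTrans.ext (funext fun V => ?_))
  exact (φ.hom.naturality ((split f g w).app V.unop).op).symm

theorem pushUnit₀_naturality (f : X ⟶ X) (hf : f = 𝟙 X) {F G : EtCoh.Ab X} (φ : F ⟶ G) :
    pushUnit₀ f hf F ≫ (EtCoh.push f).map φ = φ ≫ pushUnit₀ f hf G := by
  refine ObjectProperty.hom_ext _ (NatTrans.ext (funext fun V => ?_))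
  exact φ.hom.naturality ((unit₀ f hf).app V.unop).op

end Groth.L27.LimCoh
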