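import Groth.Agent.L27.LimCoh.Canon
import Groth.Agent.L27.LimCoh.PushSys
import Groth.Agent.L27.LimCoh.HComp
import Mathlib.CategoryTheory.Idempotents.Basic

/-! # Systems whose identity transition is only idempotent -/

universe u

open CategoryTheory CategoryTheory.Limits AlgebraicGeometry Opposite

set_option backward.isDefEq.respectTransparency.types false
set_option linter.style.haveILetI false
set_option linter.unusedSectionVars false
set_option linter.unusedVariables false

namespace Groth.L27.LimCoh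

section Lemmas

variable {X Y Z : Scheme.{u}}

/-- The functor of base change along the identity receives the identity. -/
noncomputable def unit₀Inv (f : X ⟶ X) (hf : f = 𝟙 X) : 𝟭 X.Etale ⟶ EtCoh.bc f where
  app V := lift f (𝟙 V.left) (by subst hf; exact (Category.id_comp _).trans (Category.comp_id _).symm)
  naturality U V m := bc_hom_ext f (by
    refine (Category.assoc _ _ _).trans ((congrArg (_ ≫ ·) (lift_fstB f _ _)).trans ((Category.comp_id _).trans ?_))
    refine Eq.trans ?_ ((Category.assoc _ _ _).trans (congrArg (_ ≫ ·) (fstB_nat f m))).symm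
    exact ((congrArg (· ≫ m.left) (lift_fstB f _ _)).trans (Category.id_comp _)).symm.trans (Category.assoc _ _ _))

/-- The inverse of `pushUnit₀`. -/
noncomputable def pushUnit₀Inv (f : X ⟶ X) (hf : f = 𝟙 X) (F : EtCoh.Ab X) : (EtCoh.push f).obj F ⟶ F :=
  ObjectProperty.homMk (Functor.whiskerRight (NatTrans.op (unit₀Inv f hf)) F.obj)

theorem pushUnit₀Inv_comp (f : X ⟶ X) (hf : f = 𝟙 X) (F : EtCoh.Ab X) :
    pushUnit₀Inv f hf F ≫ pushUnit₀ f hf F = 𝟙 _ := by
  refine sheafHom_ext fun V s => ?_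
  refine (Functor.map_comp_apply F.obj _ _ _).symm.trans ?_
  refine Eq.trans ?_ (congr($(F.obj.map_id _) s))
  refine congrArg (fun l => F.obj.map (Quiver.Hom.op l) s) (MorphismProperty.Over.Hom.ext ?_)
  refine pullback.hom_ext ?_ ?_
  · exact (Category.assoc _ _ _).trans ((congrArg (_ ≫ ·) (lift_fstB f _ _)).trans
      ((Category.comp_id _).trans (Category.id_comp _).symm))
  · exact (MorphismProperty.Over.w ((unit₀ f hf).app V ≫ (unit₀Inv f hf).app V)).trans
      (Category.id_comp _).symm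

/-- The unit on the left. -/
theorem pushUnit₀_comp_pushJoin (f : Z ⟶ X) (e : X ⟶ X) (he : e = 𝟙 X) {k : Z ⟶ X} (hk : f = k)
    (w : f ≫ e = k) {A : EtCoh.Ab X} {B : EtCoh.Ab Z} (x : A ⟶ (EtCoh.push f).obj B) :
    pushUnit₀ e he A ≫ (EtCoh.push e).map x ≫ pushJoin f e w B = x ≫ eqToHom (by rw [hk]) := by
  subst hk
  rw [← Category.assoc, pushUnit₀_naturality, Category.assoc, eqToHom_refl, Category.comp_id]
  refine (congrArg (x ≫ ·) ?_).trans (Category.comp_id x)
  rw [← pushSplit_unit₀ f e he w, pushSplit_pushJoin]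

theorem pushUnit₀_pushJoin_right (e : Z ⟶ Z) (he : e = 𝟙 Z) (g : Z ⟶ X) (w : e ≫ g = g) (B : EtCoh.Ab Z) :
    (EtCoh.push g).map (pushUnit₀ e he B) ≫ pushJoin e g w B = 𝟙 _ := by
  refine sheafHom_ext fun V s => ?_
  refine (Functor.map_comp_apply B.obj _ _ _).symm.trans ?_
  refine Eq.trans ?_ (congr($(B.obj.map_id _) s))
  refine congrArg (fun l => B.obj.map (Quiver.Hom.op l) s) (MorphismProperty.Over.Hom.ext ?_)
  refine pullback.hom_ext ?_ ?_
  · refine (Category.assoc _ _ _).trans ?_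
    exact (Category.assoc _ _ _).symm.trans ((congrArg (· ≫ fstB g V) (join_fstB e g w V)).trans
      ((midB_fstB e g w V).trans (Category.id_comp _).symm))
  · exact (MorphismProperty.Over.w ((join e g w).app V ≫ (unit₀ e he).app _)).trans (Category.id_comp _).symm

theorem pushComp_hom_app (f : Z ⟶ Y) (g : Y ⟶ X) (F : EtCoh.Ab Z) :
    (EtCoh.pushComp g f).hom.app F = pushJoin f g rfl F := by
  have h : (EtCoh.pushComp g f).inv.app F = pushSplit f g rfl F := by
    rw [← pushCongr_pushComp_inv f g rfl F]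
    refine ((congrArg (· ≫ _) ?_).trans (Category.id_comp _)).symm
    refine sheafHom_ext fun V s => ?_
    simp [EtCoh.pushCongr, MorphismProperty.Over.pullbackCongr, MorphismProperty.Over.isoMk,
      MorphismProperty.Comma.isoMk, Comma.isoMk]
    refine Eq.trans ?_ (congr($(F.obj.map_id _) s))
    refine congrArg (fun l => F.obj.map (Quiver.Hom.op l) s) (bc_hom_ext _ ?_)
    rfl
  refine (Category.comp_id _).symm.trans ?_
  rw [← pushSplit_pushJoin f g rfl F, ← h]
  exact Iso.hom_inv_id_assoc ((EtCoh.pushComp g f).app F) (pushJoin f g rfl F)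

theorem pullTrans_eq_gamma (f : Z ⟶ Y) (g : Y ⟶ X) {k : Z ⟶ X} (h : k = f ≫ g) (F : EtCoh.Ab X) :
    (EtCore.pullCongr h ≪≫ EtCore.pullComp f g).hom.app F = gamma f g h.symm F := by
  subst h
  refine ((EtCoh.pullPushAdj (f ≫ g)).homEquiv _ _).injective ?_
  refine Eq.trans ?_ (Equiv.apply_symm_apply ((EtCoh.pullPushAdj (f ≫ g)).homEquiv F _) _).symm
  have e : (EtCore.pullCongr (rfl : f ≫ g = f ≫ g) ≪≫ EtCore.pullComp f g).hom.app F =
      (EtCore.pullComp f g).hom.app F := by simp [EtCore.pullCongr]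
  rw [e, Adjunction.homEquiv_unit]
  refine (Adjunction.unit_leftAdjointUniq_hom_app _ _ F).trans ?_
  simp [Adjunction.ofNatIsoRight, pushComp_hom_app]

end Lemmas

section Retract

variable {I : Type u} [SmallCategory I] (D : I ⥤ Scheme.{u})

/-- A system without the axiom on identities. -/
structure PreSys where
  /-- The sheaves. -/
  F : ∀ i, EtCoh.Ab (D.obj i)
  /-- The transition morphisms. -/
  ψ : ∀ {i j : I} (g : j ⟶ i), F i ⟶ (EtCoh.push (D.map g)).obj (F j)
  ψ_comp : ∀ {i j k : I} (h : k ⟶ j) (g : j ⟶ i),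
    ψ (h ≫ g) = ψ g ≫ (EtCoh.push (D.map g)).map (ψ h) ≫ pushJoin (D.map h) (D.map g) (map_w D h g) (F k)

variable {D} (P : PreSys D)

theorem PreSys.ψ_congr {i j : I} {g g' : j ⟶ i} (e : g = g') :
    P.ψ g ≫ eqToHom (by rw [e]) = P.ψ g' := by
  subst e; exact Category.comp_id _

/-- The idempotent. -/
noncomputable def PreSys.e (i : I) : P.F i ⟶ P.F i :=
  P.ψ (𝟙 i) ≫ pushUnit₀Inv (D.map (𝟙 i)) (D.map_id i) (P.F i)

theorem PreSys.e_unit (i : I) : P.e i ≫ pushUnit₀ (D.map (𝟙 i)) (D.map_id i) (P.F i) = P.ψ (𝟙 i) :=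
  (Category.assoc _ _ _).trans ((congrArg (P.ψ (𝟙 i) ≫ ·) (pushUnit₀Inv_comp _ _ _)).trans (Category.comp_id _))

theorem map_w_id_right {i j : I} (g : j ⟶ i) : D.map g ≫ D.map (𝟙 i) = D.map g :=
  (map_w D g (𝟙 i)).trans (congrArg D.map (Category.comp_id g))

theorem map_w_id_left {i j : I} (g : j ⟶ i) : D.map (𝟙 j) ≫ D.map g = D.map g :=
  (map_w D (𝟙 j) g).trans (congrArg D.map (Category.id_comp g))

theorem pushJoin_cast {X Y Z : Scheme.{u}} (f : Z ⟶ Y) (g : Y ⟶ X) {k k' : Z ⟶ X} (w : f ≫ g = k) (e : k = k')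
    (F : EtCoh.Ab Z) : pushJoin f g w F ≫ eqToHom (by rw [e]) = pushJoin f g (w.trans e) F := by
  subst e; exact Category.comp_id _

theorem PreSys.e_ψ {i j : I} (g : j ⟶ i) : P.e i ≫ P.ψ g = P.ψ g := by
  have h1 : P.ψ g = P.ψ (𝟙 i) ≫ (EtCoh.push (D.map (𝟙 i))).map (P.ψ g) ≫
      pushJoin (D.map g) (D.map (𝟙 i)) (map_w_id_right g) (P.F j) := by
    refine (P.ψ_congr (Category.comp_id g)).symm.trans ?_
    rw [P.ψ_comp g (𝟙 i)]
    simp only [Category.assoc]
    rw [pushJoin_cast (D.map g) (D.map (𝟙 i)) (map_w D g (𝟙 i)) (congrArg D.map (Category.comp_id g))]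
  refine Eq.trans ?_ h1.symm
  rw [← P.e_unit i, Category.assoc, pushUnit₀_comp_pushJoin (D.map g) (D.map (𝟙 i)) (D.map_id i) rfl,
    eqToHom_refl, Category.comp_id]

theorem PreSys.ψ_e {i j : I} (g : j ⟶ i) : P.ψ g ≫ (EtCoh.push (D.map g)).map (P.e j) = P.ψ g := by
  have h1 : P.ψ g = P.ψ g ≫ (EtCoh.push (D.map g)).map (P.ψ (𝟙 j)) ≫
      pushJoin (D.map (𝟙 j)) (D.map g) (map_w_id_left g) (P.F j) := by
    refine (P.ψ_congr (Category.id_comp g)).symm.trans ?_
    rw [P.ψ_comp (𝟙 j) g]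
    simp only [Category.assoc]
    rw [pushJoin_cast (D.map (𝟙 j)) (D.map g) (map_w D (𝟙 j) g) (congrArg D.map (Category.id_comp g))]
  refine Eq.trans ?_ h1.symm
  rw [← P.e_unit j, Functor.map_comp, Category.assoc, pushUnit₀_pushJoin_right, Category.comp_id]

theorem PreSys.e_e (i : I) : P.e i ≫ P.e i = P.e i :=
  (Category.assoc _ _ _).symm.trans (congrArg (· ≫ pushUnit₀Inv _ _ _) (P.e_ψ (𝟙 i)))

/-- The retract at a stage. -/
noncomputable def PreSys.Y (i : I) : EtCoh.Ab (D.obj i) :=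
  (IsIdempotentComplete.idempotents_split (P.F i) (P.e i) (P.e_e i)).choose

/-- The inclusion of the retract. -/
noncomputable def PreSys.s (i : I) : P.Y i ⟶ P.F i :=
  (IsIdempotentComplete.idempotents_split (P.F i) (P.e i) (P.e_e i)).choose_spec.choose

/-- The projection onto the retract. -/
noncomputable def PreSys.p (i : I) : P.F i ⟶ P.Y i :=
  (IsIdempotentComplete.idempotents_split (P.F i) (P.e i) (P.e_e i)).choose_spec.choose_spec.choose

theorem PreSys.s_p (i : I) : P.s i ≫ P.p i = 𝟙 _ :=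
  (IsIdempotentComplete.idempotents_split (P.F i) (P.e i) (P.e_e i)).choose_spec.choose_spec.choose_spec.1

theorem PreSys.p_s (i : I) : P.p i ≫ P.s i = P.e i :=
  (IsIdempotentComplete.idempotents_split (P.F i) (P.e i) (P.e_e i)).choose_spec.choose_spec.choose_spec.2

/-- The system of retracts. -/
noncomputable def PreSys.sys : Sys D where
  F := P.Y
  ψ {i j} g := P.s i ≫ P.ψ g ≫ (EtCoh.push (D.map g)).map (P.p j)
  ψ_id i := by
    rw [← P.e_unit i, Category.assoc, pushUnit₀_naturality, ← P.p_s i]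
    simp only [Category.assoc]
    rw [reassoc_of% (P.s_p i), reassoc_of% (P.s_p i)]
  ψ_comp {i j k} h g := by
    rw [P.ψ_comp h g]
    simp only [Category.assoc, Functor.map_comp]
    rw [pushJoin_naturality]
    refine congrArg (P.s i ≫ ·) ?_
    rw [← Category.assoc ((EtCoh.push (D.map g)).map (P.p j)) ((EtCoh.push (D.map g)).map (P.s j)),
      ← Functor.map_comp, P.p_s, reassoc_of% (P.ψ_e g)]

end Retract

end Groth.L27.LimCoh
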