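import Groth.Agent.L27.LimCoh.RetractColim
import Mathlib.CategoryTheory.Filtered.Connected
import Mathlib.CategoryTheory.Limits.Connected

/-! # The system pulled back from one stage -/

universe u

open CategoryTheory CategoryTheory.Limits AlgebraicGeometry Opposite

set_option backward.isDefEq.respectTransparency.types false
set_option linter.style.haveILetI false
set_option linter.unusedSectionVars false
set_option linter.unusedVariables false

namespace Groth.L27.LimCoh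

section Generic

variable {X Y Z W : Scheme.{u}}

theorem pushJoin_assoc (p : W ⟶ Z) (f : Z ⟶ Y) (g : Y ⟶ X) {pf : W ⟶ Y} {fg : Z ⟶ X} {t : W ⟶ X}
    (w₁ : p ≫ f = pf) (w₂ : f ≫ g = fg) (wL : pf ≫ g = t) (wR : p ≫ fg = t) (F : EtCoh.Ab W) :
    (EtCoh.push g).map (pushJoin p f w₁ F) ≫ pushJoin pf g wL F =
      pushJoin f g w₂ _ ≫ pushJoin p fg wR F := by
  have h : (EtCoh.push g).map (pushSplit p f w₁ F) ≫ pushJoin f g w₂ _ ≫ pushJoin p fg wR F =
      pushJoin pf g wL F := by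
    refine Eq.trans ?_ ((congrArg (pushJoin pf g wL F ≫ ·) (pushSplit_pushJoin p fg wR F)).trans (Category.comp_id _))
    rw [← pushSplit_assoc p f g w₁ w₂ wL wR F]
    simp only [Category.assoc]
    rw [reassoc_of% (pushJoin_pushSplit pf g wL F)]
  rw [← h, ← Category.assoc, ← Functor.map_comp, pushJoin_pushSplit, CategoryTheory.Functor.map_id,
    Category.id_comp]

variable {B : Scheme.{u}} (F₀ : EtCoh.Ab B) (f : Z ⟶ Y) (t : Y ⟶ B) {s : Z ⟶ B} (w : f ≫ t = s)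

/-- The transposed comparison of the inverse images from one stage. -/
noncomputable def stageψ : (EtCoh.pull t).obj F₀ ⟶ (EtCoh.push f).obj ((EtCoh.pull s).obj F₀) :=
  (EtCoh.pullPushAdj f).homEquiv _ _ (((EtCore.pullComp f t).symm ≪≫ EtCore.pullCongr w).app F₀).hom

theorem gamma_inv : gamma f t w F₀ ≫ (((EtCore.pullComp f t).symm ≪≫ EtCore.pullCongr w).app F₀).hom = 𝟙 _ := by
  subst w
  refine (congrArg (· ≫ _) (pullTrans_eq_gamma f t (rfl : f ≫ t = f ≫ t) F₀).symm).trans ?_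
  simp [EtCore.pullCongr]

theorem unit_stageψ : (EtCoh.pullPushAdj t).unit.app F₀ ≫ (EtCoh.push t).map (stageψ F₀ f t w) ≫
    pushJoin f t w _ = (EtCoh.pullPushAdj s).unit.app F₀ := by
  rw [← homEquiv_gamma_comp f t w F₀, stageψ, Equiv.symm_apply_apply]
  have e : ((EtCoh.pullPushAdj t).homEquiv F₀ ((EtCoh.pull t).obj F₀)).symm ((EtCoh.pullPushAdj t).unit.app F₀) = 𝟙 _ :=
    (Equiv.symm_apply_eq _).2 (Adjunction.homEquiv_id _ _).symm
  rw [e, CategoryTheory.Functor.map_id, Category.id_comp, gamma_inv F₀ f t w, Adjunction.homEquiv_id]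

theorem ext_of_unit {M : EtCoh.Ab Z} {a b : (EtCoh.pull t).obj F₀ ⟶ (EtCoh.push f).obj M}
    (h : (EtCoh.pullPushAdj t).unit.app F₀ ≫ (EtCoh.push t).map a ≫ pushJoin f t w M =
      (EtCoh.pullPushAdj t).unit.app F₀ ≫ (EtCoh.push t).map b ≫ pushJoin f t w M) : a = b := by
  refine ((EtCoh.pullPushAdj t).homEquiv _ _).injective ?_
  rw [Adjunction.homEquiv_unit, Adjunction.homEquiv_unit]
  have h' := congrArg (· ≫ pushSplit f t w M) h
  simp only [Category.assoc, pushJoin_pushSplit, Category.comp_id] at h'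
  exact h'

end Generic

theorem stageψ_comp {X Y Z B : Scheme.{u}} (F₀ : EtCoh.Ab B) (h : Z ⟶ Y) (g : Y ⟶ X) {k : Z ⟶ X}
    (wk : h ≫ g = k) (tx : X ⟶ B) (ty : Y ⟶ B) (tz : Z ⟶ B) (wg : g ≫ tx = ty) (wh : h ≫ ty = tz)
    (w : k ≫ tx = tz) :
    stageψ F₀ k tx w = stageψ F₀ g tx wg ≫ (EtCoh.push g).map (stageψ F₀ h ty wh) ≫ pushJoin h g wk _ := by
  refine ext_of_unit F₀ k tx w ?_
  rw [unit_stageψ, Functor.map_comp, Functor.map_comp]
  simp only [Category.assoc]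
  rw [pushJoin_assoc h g tx wk wg w wh, ← Category.assoc ((EtCoh.push tx).map ((EtCoh.push g).map _)),
    pushJoin_naturality, Category.assoc, reassoc_of% (unit_stageψ F₀ g tx wg), unit_stageψ]

theorem homEquiv_trans_comp {I : Type u} [SmallCategory I] {D : I ⥤ Scheme.{u}} (P : PreSys D) (c : Cone D)
    {i j : I} (g : j ⟶ i) {M : EtCoh.Ab c.pt} (m : (EtCoh.pull (prj c j)).obj (P.F j) ⟶ M) :
    (EtCoh.pullPushAdj (prj c i)).homEquiv _ _ (P.trans c g ≫ m) =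
      P.ψ g ≫ (EtCoh.push (D.map g)).map ((EtCoh.pullPushAdj (prj c j)).homEquiv _ _ m) ≫
        pushJoin (prj c j) (D.map g) (prj_w c g) M := by
  rw [← homEquiv_gamma_comp (prj c j) (D.map g) (prj_w c g) (P.F i), Equiv.symm_apply_apply, Category.assoc]

variable {ι : Type u} [Preorder ι] (Xs : ιᵒᵖ ⥤ Scheme.{u}) (c : Cone Xs) (i₀ : ι)
  (F₀ : EtCoh.Ab (Xs.obj (op i₀)))

/-- The indices above a given one. -/
abbrev Above : Type u := {j : ι // i₀ ≤ j}

/-- The inclusion of the indices above a given one. -/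
def aboveIncl : Above i₀ ⥤ ι :=
  Monotone.functor (f := fun j : Above i₀ => j.1) fun _ _ h => h

/-- The transition to the given stage. -/
abbrev toStage (a : (Above i₀)ᵒᵖ) : ((aboveIncl i₀).op ⋙ Xs).obj a ⟶ Xs.obj (op i₀) :=
  Xs.map (homOfLE a.unop.2).op

theorem toStage_w {a b : (Above i₀)ᵒᵖ} (g : b ⟶ a) :
    ((aboveIncl i₀).op ⋙ Xs).map g ≫ toStage Xs i₀ a = toStage Xs i₀ b :=
  (Xs.map_comp _ _).symm.trans rfl

/-- The system pulled back from one stage. -/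
noncomputable def stageSys : PreSys ((aboveIncl i₀).op ⋙ Xs) where
  F a := (EtCoh.pull (toStage Xs i₀ a)).obj F₀
  ψ {a b} g := stageψ F₀ (((aboveIncl i₀).op ⋙ Xs).map g) (toStage Xs i₀ a) (toStage_w Xs i₀ g)
  ψ_comp {a b d} h g :=
    stageψ_comp F₀ _ _ (map_w ((aboveIncl i₀).op ⋙ Xs) h g) _ _ _ (toStage_w Xs i₀ g) (toStage_w Xs i₀ h)
      (toStage_w Xs i₀ (h ≫ g))

/-- The identification on the cone point. -/
noncomputable def stageθ (a : (Above i₀)ᵒᵖ) :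
    (EtCoh.pull (prj (c.whisker (aboveIncl i₀).op) a)).obj ((stageSys Xs i₀ F₀).F a) ≅
      (EtCoh.pull (c.π.app (op i₀))).obj F₀ :=
  ((EtCore.pullComp (c.π.app (op a.unop.1)) (toStage Xs i₀ a)).symm ≪≫
    EtCore.pullCongr (c.w (homOfLE a.unop.2).op)).app F₀

theorem stageθ_trans {a b : (Above i₀)ᵒᵖ} (g : b ⟶ a) :
    (stageθ Xs c i₀ F₀ a).hom =
      (stageSys Xs i₀ F₀).trans (c.whisker (aboveIncl i₀).op) g ≫ (stageθ Xs c i₀ F₀ b).hom := by
  refine ((EtCoh.pullPushAdj (prj (c.whisker (aboveIncl i₀).op) a)).homEquiv _ _).injective ?_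
  refine Eq.trans ?_ (homEquiv_trans_comp (stageSys Xs i₀ F₀) (c.whisker (aboveIncl i₀).op) g
    (stageθ Xs c i₀ F₀ b).hom).symm
  exact stageψ_comp F₀ _ _ (prj_w (c.whisker (aboveIncl i₀).op) g) _ _ (c.π.app (op i₀)) (toStage_w Xs i₀ g)
    (c.w (homOfLE b.unop.2).op) (c.w (homOfLE a.unop.2).op)

end Groth.L27.LimCoh

namespace Groth.L27.LimCoh

theorem Hpull_eq_zero_of_HpullThen {X Y : Scheme.{u}} (f : X ⟶ Y) [PreservesFiniteLimits (EtCoh.pull f)]
    (F : EtCoh.Ab Y) {M : EtCoh.Ab X} (α : (EtCoh.pull f).obj F ≅ M) (n : ℕ) (e : EtCoh.H Y F n)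
    (h : EtLim.HpullThen f F α.hom n e = 0) : EtCore.Hpull f F n e = 0 := by
  have h' := congrArg ((EtCoh.HF X n).map α.inv) h
  rw [HpullThen_apply, ← HF_map_comp, Iso.hom_inv_id, HF_map_eq, Sheaf.H.map_id_apply] at h'
  exact h'.trans (map_zero _)

variable {ι : Type u} [Preorder ι] (Xs : ιᵒᵖ ⥤ Scheme.{u}) (c : Cone Xs) (i₀ : ι)
  (F₀ : EtCoh.Ab (Xs.obj (op i₀))) [IsDirected ι (· ≤ ·)]

instance : IsDirected (Above i₀) (· ≤ ·) :=
  ⟨fun a b => by
    obtain ⟨k, h1, h2⟩ := directed_of (α := ι) (· ≤ ·) a.1 b.1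
    exact ⟨⟨k, a.2.trans h1⟩, h1, h2⟩⟩

instance : Nonempty (Above i₀) := ⟨⟨i₀, le_rfl⟩⟩

instance : (aboveIncl i₀).Final := by
  refine Functor.final_of_exists_of_isFiltered _ (fun d => ?_) (fun {d k} s s' => ⟨k, 𝟙 k, Subsingleton.elim _ _⟩)
  obtain ⟨k, h1, h2⟩ := directed_of (α := ι) (· ≤ ·) d i₀
  exact ⟨⟨k, h2⟩, ⟨homOfLE h1⟩⟩

/-- The limit over the indices above a given one. -/
noncomputable def isLimitAbove (hc : IsLimit c) : IsLimit (c.whisker (aboveIncl i₀).op) :=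
  (Functor.Initial.isLimitWhiskerEquiv (aboveIncl i₀).op c).symm hc

end Groth.L27.LimCoh

namespace Groth.L27.LimCoh

theorem PreSys.commutes_leg {I : Type u} [SmallCategory I] {D : I ⥤ Scheme.{u}} (P : PreSys D) (c : Cone D)
    [∀ i, PreservesFiniteLimits (EtCoh.pull (prj c i))]
    [∀ {i j : I} (g : j ⟶ i), PreservesFiniteLimits (EtCoh.pull (D.map g))]
    [IsCofiltered I] [∀ (j k : I) (f : j ⟶ k), IsAffineHom (D.map f)]
    [∀ i, CompactSpace (D.obj i)] [∀ i, QuasiSeparatedSpace (D.obj i)]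
    (hc : IsLimit c) (G : Iᵒᵖ ⥤ EtCoh.Ab c.pt) (θ : ∀ i, (EtCoh.pull (prj c i)).obj (P.F i) ≅ G.obj (op i))
    (hθ : ∀ {i j : I} (g : j ⟶ i), (θ i).hom ≫ G.map g.op = P.trans c g ≫ (θ j).hom)
    (t : Cocone G) (ht : IsColimit t) (β : ∀ j, (EtCoh.pull (prj c j)).obj (P.F j) ⟶ t.pt)
    (hβ : ∀ j, (θ j).hom ≫ t.ι.app (op j) = β j) (n : ℕ) :
    (∀ ξ : EtCoh.H c.pt t.pt n, ∃ (j : I) (e : EtCoh.H (D.obj j) (P.F j) n),
      EtLim.HpullThen (prj c j) (P.F j) (β j) n e = ξ) ∧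
    ∀ (j : I) (e : EtCoh.H (D.obj j) (P.F j) n), EtLim.HpullThen (prj c j) (P.F j) (β j) n e = 0 →
      ∃ (k : I) (g : k ⟶ j), EtLim.HpullThen (D.map g) (P.F j) (P.φ g) n e = 0 := by
  obtain rfl : β = fun j => (θ j).hom ≫ t.ι.app (op j) := funext fun j => (hβ j).symm
  exact P.commutes c G θ hθ hc t ht n

/-- Cohomology commutes with a colimit of a system all of whose stages have the same image. -/
theorem PreSys.commutes_const {I : Type u} [SmallCategory I] {D : I ⥤ Scheme.{u}} (P : PreSys D) (c : Cone D)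
    [∀ i, PreservesFiniteLimits (EtCoh.pull (prj c i))]
    [∀ {i j : I} (g : j ⟶ i), PreservesFiniteLimits (EtCoh.pull (D.map g))]
    [IsCofiltered I] [∀ (j k : I) (f : j ⟶ k), IsAffineHom (D.map f)]
    [∀ i, CompactSpace (D.obj i)] [∀ i, QuasiSeparatedSpace (D.obj i)]
    (hc : IsLimit c) {M : EtCoh.Ab c.pt} (θ : ∀ i, (EtCoh.pull (prj c i)).obj (P.F i) ≅ M)
    (hθ : ∀ {i j : I} (g : j ⟶ i), (θ i).hom = P.trans c g ≫ (θ j).hom) (n : ℕ) :
    (∀ ξ : EtCoh.H c.pt M n, ∃ (j : I) (e : EtCoh.H (D.obj j) (P.F j) n),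
      EtLim.HpullThen (prj c j) (P.F j) (θ j).hom n e = ξ) ∧
    ∀ (j : I) (e : EtCoh.H (D.obj j) (P.F j) n), EtLim.HpullThen (prj c j) (P.F j) (θ j).hom n e = 0 →
      ∃ (k : I) (g : k ⟶ j), EtLim.HpullThen (D.map g) (P.F j) (P.φ g) n e = 0 := by
  haveI : IsFiltered Iᵒᵖ := inferInstance
  haveI : IsConnected Iᵒᵖ := IsFiltered.isConnected _
  exact P.commutes_leg c hc ((Functor.const _).obj M) θ
    (fun {i j} g => (Category.comp_id (θ i).hom).trans (hθ g)) (constCocone _ M) (isColimitConstCocone _ M)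
    (fun j => (θ j).hom) (fun j => Category.comp_id _) n

theorem stageSys_φ {ι : Type u} [Preorder ι] (Xs : ιᵒᵖ ⥤ Scheme.{u}) (i₀ : ι)
    (F₀ : EtCoh.Ab (Xs.obj (op i₀))) {a b : (Above i₀)ᵒᵖ} (g : b ⟶ a) :
    (stageSys Xs i₀ F₀).φ g =
      (((EtCore.pullComp (((aboveIncl i₀).op ⋙ Xs).map g) (toStage Xs i₀ a)).symm ≪≫
        EtCore.pullCongr (toStage_w Xs i₀ g)).app F₀).hom :=
  Equiv.symm_apply_apply ((EtCoh.pullPushAdj (((aboveIncl i₀).op ⋙ Xs).map g)).homEquiv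
    ((EtCoh.pull (toStage Xs i₀ a)).obj F₀) ((EtCoh.pull (toStage Xs i₀ b)).obj F₀)) _

theorem HpullVia_eq {X Y Z : Scheme.{u}} (f : X ⟶ Y) (t : Y ⟶ Z) (f₀ : X ⟶ Z) (w : f ≫ t = f₀)
    [PreservesFiniteLimits (EtCoh.pull f)] (G : EtCoh.Ab Z) (p : ℕ) (e : EtCoh.H Y ((EtCoh.pull t).obj G) p) :
    EtCore.HpullVia f t f₀ w G p e = EtLim.HpullThen f ((EtCoh.pull t).obj G)
      (((EtCore.pullComp f t).symm ≪≫ EtCore.pullCongr w).app G).hom p e := rfl

end Groth.L27.LimCoh
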