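import Groth.Agent.L27.EtSite.HofPush
import Groth.Agent.L27.EtSite.Pull
import Groth.Agent.L27.LimCoh.BC
import Mathlib.Algebra.Homology.DerivedCategory.Ext.ExtClass

/-! # Naturality and functoriality of pullback on cohomology -/

universe u

open CategoryTheory CategoryTheory.Limits AlgebraicGeometry Opposite CategoryTheory.Abelian

set_option backward.isDefEq.respectTransparency.types false
set_option linter.style.haveILetI false
set_option linter.unusedSectionVars false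

namespace Groth.L27.LimCoh

variable {X Y Z : Scheme.{u}}

/-- Degree zero cohomology is global sections. -/
noncomputable abbrev secEq (F : EtCoh.Ab X) : EtCoh.H X F 0 ≃+ F.obj.obj (op (EtCoh.top X)) :=
  Sheaf.H.equiv₀ F (EtCore.topIsTerminal X)

variable (f : X ⟶ Y) [PreservesFiniteLimits (EtCoh.pull f)]

theorem HofPush_mk₀ (F : EtCoh.Ab X) (a : EtCoh.const Y ℤ ⟶ (EtCoh.push f).obj F) :
    EtLim.HofPush f F 0 (Ext.mk₀ a) =
      Ext.mk₀ ((EtCore.pullConst f ℤ).inv ≫ ((EtCoh.pullPushAdj f).homEquiv _ _).symm a) := by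
  rw [EtSite.HofPush_apply, ExtAdj.phi_mk₀, Ext.mk₀_comp_mk₀]

theorem secEq_HofPush (F : EtCoh.Ab X) (e : EtCoh.H Y ((EtCoh.push f).obj F) 0) :
    secEq F (EtLim.HofPush f F 0 e) = F.obj.map (EtCore.bcTopIso f).inv.op (secEq _ e) := by
  obtain ⟨a, rfl⟩ := (Ext.mk₀_bijective _ _).2 e
  rw [HofPush_mk₀]
  let A₁ := ((EtCore.constAdj Y).comp (EtCoh.pullPushAdj f)).ofNatIsoRight (EtCore.pushGsecIso f)
  let A₂ := EtCore.constAdj X
  let M : AddCommGrpCat.{u + 1} := AddCommGrpCat.of (ULift.{u + 1} ℤ)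
  have key : ∀ b : (EtCoh.pull f).obj (EtCoh.const Y ℤ) ⟶ F,
      A₂.homEquiv M F ((EtCore.pullConst f ℤ).inv ≫ b) = A₁.homEquiv M F b := fun b => by
    rw [Adjunction.homEquiv_unit, Adjunction.homEquiv_unit, Functor.map_comp, ← Category.assoc]
    refine congrArg (· ≫ (EtCore.gsec X).map b) ?_
    exact Adjunction.unit_leftAdjointUniq_hom_app A₂ A₁ M
  show (Ext.addEquiv₀.trans ((A₂.homAddEquiv M F).trans (AddCommGrpCat.uliftZMultiplesAddEquiv _))) (Ext.mk₀ _) = _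
  simp only [AddEquiv.trans_apply]
  rw [show Ext.addEquiv₀ (Ext.mk₀ ((EtCore.pullConst f ℤ).inv ≫ ((EtCoh.pullPushAdj f).homEquiv _ _).symm a)) =
      (EtCore.pullConst f ℤ).inv ≫ ((EtCoh.pullPushAdj f).homEquiv _ _).symm a from
    (Ext.addEquiv₀ (X := EtCoh.const X ℤ) (Y := F)).apply_symm_apply _]
  refine (congrArg (AddCommGrpCat.uliftZMultiplesAddEquiv _) (key _)).trans ?_
  show AddCommGrpCat.uliftZMultiplesAddEquiv _ (A₁.homEquiv M F (((EtCoh.pullPushAdj f).homEquiv _ _).symm a)) = _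
  have h2 : A₁.homEquiv M F (((EtCoh.pullPushAdj f).homEquiv _ _).symm a) =
      (EtCore.constAdj Y).homEquiv M _ a ≫ (EtCore.pushGsecIso f).hom.app F := by
    rw [Adjunction.homEquiv_ofNatIsoRight_apply, Adjunction.comp_homEquiv]
    simp only [Equiv.trans_apply, Equiv.apply_symm_apply]
  rw [h2]
  refine Eq.trans ?_ (congrArg (F.obj.map (EtCore.bcTopIso f).inv.op) (congrArg (AddCommGrpCat.uliftZMultiplesAddEquiv _)
    (congrArg ((EtCore.constAdj Y).homEquiv M ((EtCoh.push f).obj F))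
      ((Ext.addEquiv₀ (X := EtCoh.const Y ℤ) (Y := (EtCoh.push f).obj F)).apply_symm_apply a)))).symm
  rfl

theorem HF_map_eq {F G : EtCoh.Ab X} (φ : F ⟶ G) (n : ℕ) (e : EtCoh.H X F n) :
    (EtCoh.HF X n).map φ e = Sheaf.H.map φ n e := by
  rw [EtSite.HF_map_apply]; rfl

theorem secEq_map {F G : EtCoh.Ab X} (φ : F ⟶ G) (e : EtCoh.H X F 0) :
    secEq G ((EtCoh.HF X 0).map φ e) = φ.hom.app (op (EtCoh.top X)) (secEq F e) := by
  rw [HF_map_eq]; exact (Sheaf.H.equiv₀_naturality (EtCore.topIsTerminal X) φ e).symm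

theorem HF_map_comp {F G K : EtCoh.Ab X} (φ : F ⟶ G) (ψ : G ⟶ K) (n : ℕ) (e : EtCoh.H X F n) :
    (EtCoh.HF X n).map (φ ≫ ψ) e = (EtCoh.HF X n).map ψ ((EtCoh.HF X n).map φ e) := by
  rw [HF_map_eq, HF_map_eq, HF_map_eq, Sheaf.H.map_comp_apply]

theorem Hpull_map {F G : EtCoh.Ab Y} (φ : F ⟶ G) (n : ℕ) (e : EtCoh.H Y F n) :
    EtCore.Hpull f G n ((EtCoh.HF Y n).map φ e) =
      (EtCoh.HF X n).map ((EtCoh.pull f).map φ) (EtCore.Hpull f F n e) := by
  rw [EtSite.HF_map_apply, EtSite.HF_map_apply, EtSite.Hpull_def, EtSite.Hpull_def, Ext.mapExactFunctor_comp,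
    Ext.mapExactFunctor_mk₀]
  exact (Ext.comp_assoc_of_third_deg_zero _ _ _ _).symm

theorem HofPush_map {F G : EtCoh.Ab X} (φ : F ⟶ G) (n : ℕ) (e : EtCoh.H Y ((EtCoh.push f).obj F) n) :
    EtLim.HofPush f G n ((EtCoh.HF Y n).map ((EtCoh.push f).map φ) e) =
      (EtCoh.HF X n).map φ (EtLim.HofPush f F n e) := by
  rw [EtSite.HofPush_def, EtSite.HofPush_def, Hpull_map, ← HF_map_comp, ← HF_map_comp]
  exact congrArg (fun z => (EtCoh.HF X n).map z (EtCore.Hpull f _ n e))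
    ((EtCoh.pullPushAdj f).counit.naturality φ)

theorem HpullThen_apply (F : EtCoh.Ab Y) {M : EtCoh.Ab X} (α : (EtCoh.pull f).obj F ⟶ M) (n : ℕ)
    (e : EtCoh.H Y F n) : EtLim.HpullThen f F α n e = (EtCoh.HF X n).map α (EtCore.Hpull f F n e) := rfl

theorem HpullThen_eq (F : EtCoh.Ab Y) {M : EtCoh.Ab X} (α : (EtCoh.pull f).obj F ⟶ M) (n : ℕ)
    (e : EtCoh.H Y F n) :
    EtLim.HpullThen f F α n e =
      EtLim.HofPush f M n ((EtCoh.HF Y n).map ((EtCoh.pullPushAdj f).homEquiv _ _ α) e) := by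
  rw [Adjunction.homEquiv_unit, HF_map_comp, HofPush_map, HpullThen_apply, EtSite.Hpull_apply,
    EtSite.HF_map_apply (X := Y)]

/-- The connecting map of a short exact sequence. -/
noncomputable def δH {E : ShortComplex (EtCoh.Ab X)} (hE : E.ShortExact) (n : ℕ) :
    EtCoh.H X E.X₃ n →+ EtCoh.H X E.X₁ (n + 1) :=
  AddMonoidHom.mk' (fun e => Ext.comp e hE.extClass rfl) fun _ _ => Ext.add_comp _ _ _ _

theorem δH_apply {E : ShortComplex (EtCoh.Ab X)} (hE : E.ShortExact) (n : ℕ) (e : EtCoh.H X E.X₃ n) :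
    δH hE n e = Ext.comp e hE.extClass rfl := rfl

theorem exists_δH {E : ShortComplex (EtCoh.Ab X)} (hE : E.ShortExact) (n : ℕ) (x : EtCoh.H X E.X₁ (n + 1))
    (h : (EtCoh.HF X (n + 1)).map E.f x = 0) : ∃ y, δH hE n y = x := by
  rw [EtSite.HF_map_apply] at h
  exact Ext.covariant_sequence_exact₁ _ hE x h rfl

theorem exists_map_of_δH_eq_zero {E : ShortComplex (EtCoh.Ab X)} (hE : E.ShortExact) (n : ℕ)
    (y : EtCoh.H X E.X₃ n) (h : δH hE n y = 0) : ∃ z, (EtCoh.HF X n).map E.g z = y := by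
  obtain ⟨z, hz⟩ := Ext.covariant_sequence_exact₃ _ hE y rfl h
  exact ⟨z, (EtSite.HF_map_apply _ _ _).trans hz⟩

theorem δH_map_g {E : ShortComplex (EtCoh.Ab X)} (hE : E.ShortExact) (n : ℕ) (z : EtCoh.H X E.X₂ n) :
    δH hE n ((EtCoh.HF X n).map E.g z) = 0 := by
  rw [δH_apply, EtSite.HF_map_apply]
  exact (Ext.comp_assoc_of_second_deg_zero _ _ _ _).trans
    ((congrArg (fun t => Ext.comp z t rfl) hE.comp_extClass).trans (Ext.comp_zero _ _ _ _ _))

theorem eq_zero_of_injective (F : EtCoh.Ab X) [Injective F] (n : ℕ) (x : EtCoh.H X F (n + 1)) : x = 0 :=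
  Ext.eq_zero_of_injective x

theorem map_δH {E E' : ShortComplex (EtCoh.Ab X)} (hE : E.ShortExact) (hE' : E'.ShortExact) (φ : E ⟶ E')
    (n : ℕ) (e : EtCoh.H X E.X₃ n) :
    (EtCoh.HF X (n + 1)).map φ.τ₁ (δH hE n e) = δH hE' n ((EtCoh.HF X n).map φ.τ₃ e) := by
  rw [δH_apply, δH_apply, EtSite.HF_map_apply, EtSite.HF_map_apply]
  exact (Ext.comp_assoc_of_third_deg_zero _ _ _ _).trans ((congrArg (fun z => Ext.comp e z rfl)
    (ShortComplex.ShortExact.extClass_naturality hE hE' φ)).trans (Ext.comp_assoc_of_second_deg_zero _ _ _ _).symm)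

theorem Hpull_δH {E : ShortComplex (EtCoh.Ab Y)} (hE : E.ShortExact) (n : ℕ) (e : EtCoh.H Y E.X₃ n) :
    EtCore.Hpull f E.X₁ (n + 1) (δH hE n e) =
      δH (hE.map_of_exact (EtCoh.pull f)) n (EtCore.Hpull f E.X₃ n e) := by
  rw [δH_apply, δH_apply, EtSite.Hpull_def, EtSite.Hpull_def, Ext.mapExactFunctor_comp,
    Ext.mapExactFunctor_extClass]
  exact (Ext.comp_assoc _ _ _ (zero_add n) rfl (by omega)).symm

/-- Pulling back commutes with connecting morphisms. -/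
theorem HpullThen_δH {E : ShortComplex (EtCoh.Ab Y)} (hE : E.ShortExact) {E' : ShortComplex (EtCoh.Ab X)}
    (hE' : E'.ShortExact) (φ : E.map (EtCoh.pull f) ⟶ E') (n : ℕ) (e : EtCoh.H Y E.X₃ n) :
    EtLim.HpullThen f E.X₁ φ.τ₁ (n + 1) (δH hE n e) =
      δH hE' n (EtLim.HpullThen f E.X₃ φ.τ₃ n e) := by
  rw [HpullThen_apply, HpullThen_apply, Hpull_δH f hE]
  exact map_δH (hE.map_of_exact (EtCoh.pull f)) hE' φ n _

theorem HpullThen_comp_map (F : EtCoh.Ab Y) {M N : EtCoh.Ab X} (α : (EtCoh.pull f).obj F ⟶ M) (β : M ⟶ N)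
    (n : ℕ) (e : EtCoh.H Y F n) :
    EtLim.HpullThen f F (α ≫ β) n e = (EtCoh.HF X n).map β (EtLim.HpullThen f F α n e) :=
  HF_map_comp α β n _

theorem HpullThen_map {F F' : EtCoh.Ab Y} (φ : F ⟶ F') {M : EtCoh.Ab X} (α : (EtCoh.pull f).obj F' ⟶ M)
    (n : ℕ) (e : EtCoh.H Y F n) :
    EtLim.HpullThen f F' α n ((EtCoh.HF Y n).map φ e) =
      EtLim.HpullThen f F ((EtCoh.pull f).map φ ≫ α) n e := by
  rw [HpullThen_apply, HpullThen_apply, Hpull_map, ← HF_map_comp]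

theorem secEq_HpullThen (F : EtCoh.Ab Y) {M : EtCoh.Ab X} (α : (EtCoh.pull f).obj F ⟶ M)
    (e : EtCoh.H Y F 0) :
    secEq M (EtLim.HpullThen f F α 0 e) = M.obj.map (EtCore.bcTopIso f).inv.op
      (((EtCoh.pullPushAdj f).homEquiv _ _ α).hom.app (op (EtCoh.top Y)) (secEq F e)) := by
  rw [HpullThen_eq, secEq_HofPush, secEq_map]

end Groth.L27.LimCoh
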