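import Groth.Agent.L27.LimCoh.Sys
import Groth.Agent.L27.EtSite.Pull
import Mathlib.CategoryTheory.Abelian.GrothendieckCategory.EnoughInjectives
import Mathlib.Algebra.Homology.ShortComplex.ShortExact
import Mathlib.CategoryTheory.Preadditive.Injective.Basic

/-! # A system embeds in a system of injectives -/

universe u

open CategoryTheory CategoryTheory.Limits AlgebraicGeometry Opposite

set_option backward.isDefEq.respectTransparency.types false
set_option linter.style.haveILetI false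
set_option linter.unusedSectionVars false

namespace Groth.L27.LimCoh

section Lemmas

variable {X Y Z W : Scheme.{u}}

theorem sheafHom_ext {A B : EtCoh.Ab X} {a b : A ⟶ B}
    (h : ∀ (V : X.Etale) (s : A.obj.obj (op V)), a.hom.app (op V) s = b.hom.app (op V) s) : a = b :=
  ObjectProperty.hom_ext _ (NatTrans.ext (funext fun V => ConcreteCategory.hom_ext _ _ fun s => h V.unop s))

theorem pushJoin_pushSplit (f : Z ⟶ Y) (g : Y ⟶ X) {k : Z ⟶ X} (w : f ≫ g = k) (F : EtCoh.Ab Z) :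
    pushJoin f g w F ≫ pushSplit f g w F = 𝟙 _ := by
  refine sheafHom_ext fun V s => ?_
  refine (Functor.map_comp_apply F.obj _ _ _).symm.trans ((congrArg (fun l => F.obj.map (Quiver.Hom.op l) s)
    (split_join f g w V)).trans ?_)
  exact congr($(F.obj.map_id _) s)

theorem pushSplit_unit₀ (f : Y ⟶ X) (e : X ⟶ X) (he : e = 𝟙 X) (w : f ≫ e = f) (F : EtCoh.Ab Y) :
    pushSplit f e w F = pushUnit₀ e he ((EtCoh.push f).obj F) := by
  refine sheafHom_ext fun V s => ?_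
  refine congrArg (fun l => F.obj.map (Quiver.Hom.op l) s) (bc_hom_ext f ?_)
  exact (split_fstB f e w V).trans (fstB_nat f ((unit₀ e he).app V)).symm

theorem pushSplit_assoc (p : W ⟶ Z) (f : Z ⟶ Y) (g : Y ⟶ X) {pf : W ⟶ Y} {fg : Z ⟶ X} {t : W ⟶ X}
    (w₁ : p ≫ f = pf) (w₂ : f ≫ g = fg) (wL : pf ≫ g = t) (wR : p ≫ fg = t) (F : EtCoh.Ab W) :
    pushSplit pf g wL F ≫ (EtCoh.push g).map (pushSplit p f w₁ F) ≫ pushJoin f g w₂ _ =
      pushSplit p fg wR F := by
  refine sheafHom_ext fun V s => ?_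
  show F.obj.map ((EtCoh.bc p).map ((join f g w₂).app V)).op (F.obj.map ((split p f w₁).app _).op
    (F.obj.map ((split pf g wL).app V).op s)) = F.obj.map ((split p fg wR).app V).op s
  refine (congrArg (F.obj.map _) (Functor.map_comp_apply F.obj _ _ _).symm).trans
    ((Functor.map_comp_apply F.obj _ _ _).symm.trans ?_)
  refine congrArg (fun l => F.obj.map (Quiver.Hom.op l) s) (bc_hom_ext t ?_)
  refine Eq.trans ?_ (split_fstB p fg wR V).symm
  refine (Category.assoc _ _ _).trans ?_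
  refine (congrArg (_ ≫ ·) ((Category.assoc _ _ _).trans (congrArg (_ ≫ ·) (split_fstB pf g wL V)))).trans ?_
  refine (congrArg (_ ≫ ·) ((Category.assoc _ _ _).symm.trans ((congrArg (· ≫ fstB g V)
    (split_fstB p f w₁ ((EtCoh.bc g).obj V))).trans (Category.assoc _ _ _)))).trans ?_
  refine (Category.assoc _ _ _).symm.trans ((congrArg (· ≫ (fstB f ((EtCoh.bc g).obj V) ≫ fstB g V))
    (fstB_nat p ((join f g w₂).app V))).trans ((Category.assoc _ _ _).trans (congrArg (_ ≫ ·) ?_)))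
  exact (Category.assoc _ _ _).symm.trans ((congrArg (· ≫ fstB g V) (join_fstB f g w₂ V)).trans
    (midB_fstB f g w₂ V))

theorem mono_pushUnit₀ (f : X ⟶ X) (hf : f = 𝟙 X) (F : EtCoh.Ab X) : Mono (pushUnit₀ f hf F) := by
  refine ⟨fun {A} a b h => sheafHom_ext fun V s => ?_⟩
  have hinj : Function.Injective ((pushUnit₀ f hf F).hom.app (op V)) := fun x y e => by
    let m : V ⟶ (EtCoh.bc f).obj V := lift f (𝟙 V.left) (by subst hf; exact (Category.id_comp _).trans (Category.comp_id _).symm)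
    have hm : m ≫ (unit₀ f hf).app V = 𝟙 V := MorphismProperty.Over.Hom.ext (lift_fstB f _ _)
    have key : ∀ z : F.obj.obj (op V), F.obj.map m.op (F.obj.map ((unit₀ f hf).app V).op z) = z := fun z =>
      (Functor.map_comp_apply F.obj _ _ _).symm.trans
        ((congrArg (fun l => F.obj.map (Quiver.Hom.op l) z) hm).trans (congr($(F.obj.map_id _) z)))
    exact (key x).symm.trans ((congrArg (F.obj.map m.op) e).trans (key y))
  exact hinj (congrArg (fun z => z.hom.app (op V) s) h)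

theorem pushHom_ext {ι : Type u} (f : Y ⟶ X) {J : ι → EtCoh.Ab Y} {A : EtCoh.Ab X}
    {a b : A ⟶ (EtCoh.push f).obj (∏ᶜ J)}
    (h : ∀ p, a ≫ (EtCoh.push f).map (Pi.π J p) = b ≫ (EtCoh.push f).map (Pi.π J p)) : a = b := by
  refine ((EtCoh.pullPushAdj f).homEquiv _ _).symm.injective (Pi.hom_ext _ _ fun p => ?_)
  rw [← Adjunction.homEquiv_naturality_right_symm, ← Adjunction.homEquiv_naturality_right_symm, h p]

theorem comp_pushJoin_map (f : Z ⟶ Y) (g : Y ⟶ X) {k : Z ⟶ X} (w : f ≫ g = k) {A : EtCoh.Ab X}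
    {B : EtCoh.Ab Y} {C C' : EtCoh.Ab Z} (a : A ⟶ (EtCoh.push g).obj B) (b : B ⟶ (EtCoh.push f).obj C)
    (q : C ⟶ C') :
    (a ≫ (EtCoh.push g).map b ≫ pushJoin f g w C) ≫ (EtCoh.push k).map q =
      a ≫ (EtCoh.push g).map (b ≫ (EtCoh.push f).map q) ≫ pushJoin f g w C' := by
  simp only [Category.assoc, Functor.map_comp, pushJoin_naturality]

theorem comp_pushJoin_map_split (f : Z ⟶ Y) (g : Y ⟶ X) {k : Z ⟶ X} (w : f ≫ g = k) {A : EtCoh.Ab X}
    {B : EtCoh.Ab Y} {C C' : EtCoh.Ab Z} (a : A ⟶ (EtCoh.push g).obj B) (b : B ⟶ (EtCoh.push f).obj C)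
    (q : C ⟶ C') :
    ((a ≫ (EtCoh.push g).map b ≫ pushJoin f g w C) ≫ (EtCoh.push k).map q) ≫ pushSplit f g w C' =
      a ≫ (EtCoh.push g).map (b ≫ (EtCoh.push f).map q) := by
  rw [comp_pushJoin_map, Category.assoc, Category.assoc, pushJoin_pushSplit, Category.comp_id]

theorem comp_map_comp (g : Y ⟶ X) {A K : EtCoh.Ab X} {B B' B'' : EtCoh.Ab Y} (a : A ⟶ (EtCoh.push g).obj B)
    (q : B ⟶ B') (r : B' ⟶ B'') (t : (EtCoh.push g).obj B'' ⟶ K) :
    a ≫ (EtCoh.push g).map (q ≫ r) ≫ t = (a ≫ (EtCoh.push g).map q) ≫ (EtCoh.push g).map r ≫ t := by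
  simp only [Category.assoc, Functor.map_comp]

end Lemmas

variable {I : Type u} [SmallCategory I] {D : I ⥤ Scheme.{u}} (S : Sys D)

/-- The injective factors. -/
noncomputable abbrev injFam (k : I) (p : Σ m : I, (m ⟶ k)) : EtCoh.Ab (D.obj k) :=
  (EtCoh.push (D.map p.2)).obj (Injective.under (S.F p.1))

theorem injFam_congr {i m : I} {g g' : m ⟶ i} (e : g = g') {Y : Scheme.{u}} (h : Y ⟶ D.obj i)
    (f : D.obj m ⟶ Y) (w : f ≫ h = D.map g) (w' : f ≫ h = D.map g') :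
    Pi.π (injFam S i) ⟨m, g⟩ ≫ pushSplit f h w _ = Pi.π (injFam S i) ⟨m, g'⟩ ≫ pushSplit f h w' _ := by
  subst e; rfl

/-- The transition maps of the injective system. -/
noncomputable def injψ {j k : I} (h : k ⟶ j) :
    (∏ᶜ injFam S j) ⟶ (EtCoh.push (D.map h)).obj (∏ᶜ injFam S k) :=
  (EtCoh.pullPushAdj (D.map h)).homEquiv _ _ (Pi.lift fun p =>
    ((EtCoh.pullPushAdj (D.map h)).homEquiv _ _).symm
      (Pi.π (injFam S j) ⟨p.1, p.2 ≫ h⟩ ≫ pushSplit (D.map p.2) (D.map h) (map_w D p.2 h) _))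

theorem injψ_π {j k : I} (h : k ⟶ j) (p : Σ m : I, (m ⟶ k)) :
    injψ S h ≫ (EtCoh.push (D.map h)).map (Pi.π (injFam S k) p) =
      Pi.π (injFam S j) ⟨p.1, p.2 ≫ h⟩ ≫ pushSplit (D.map p.2) (D.map h) (map_w D p.2 h) _ := by
  rw [injψ, ← Adjunction.homEquiv_naturality_right, Pi.lift_π, Equiv.apply_symm_apply]

theorem injψ_id (i : I) : injψ S (𝟙 i) = pushUnit₀ (D.map (𝟙 i)) (D.map_id i) (∏ᶜ injFam S i) := by
  refine pushHom_ext (D.map (𝟙 i)) (J := injFam S i) fun ⟨m, g⟩ => ?_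
  refine (injψ_π S (𝟙 i) ⟨m, g⟩).trans ?_
  refine Eq.trans ?_ (pushUnit₀_naturality (D.map (𝟙 i)) (D.map_id i) (Pi.π (injFam S i) ⟨m, g⟩)).symm
  refine (injFam_congr S (Category.comp_id g) (D.map (𝟙 i)) (D.map g) (map_w D g (𝟙 i))
    ((map_w D g (𝟙 i)).trans (congrArg D.map (Category.comp_id g)))).trans ?_
  exact congrArg (Pi.π (injFam S i) ⟨m, g⟩ ≫ ·)
    (pushSplit_unit₀ (D.map g) (D.map (𝟙 i)) (D.map_id i) _ (Injective.under (S.F m)))

theorem injψ_comp {i j k : I} (h : k ⟶ j) (g₀ : j ⟶ i) :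
    injψ S (h ≫ g₀) = injψ S g₀ ≫ (EtCoh.push (D.map g₀)).map (injψ S h) ≫
      pushJoin (D.map h) (D.map g₀) (map_w D h g₀) (∏ᶜ injFam S k) := by
  refine pushHom_ext (D.map (h ≫ g₀)) (J := injFam S k) fun ⟨m, g⟩ => ?_
  have e1 : injψ S g₀ ≫ (EtCoh.push (D.map g₀)).map (Pi.π (injFam S j) ⟨m, g ≫ h⟩) =
      Pi.π (injFam S i) ⟨m, (g ≫ h) ≫ g₀⟩ ≫
        pushSplit (D.map (g ≫ h)) (D.map g₀) (map_w D (g ≫ h) g₀) _ := injψ_π S g₀ ⟨m, g ≫ h⟩
  have e2 : injψ S h ≫ (EtCoh.push (D.map h)).map (Pi.π (injFam S k) ⟨m, g⟩) =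
      Pi.π (injFam S j) ⟨m, g ≫ h⟩ ≫ pushSplit (D.map g) (D.map h) (map_w D g h) _ := injψ_π S h ⟨m, g⟩
  refine (injψ_π S (h ≫ g₀) ⟨m, g⟩).trans ?_
  refine Eq.trans ?_ (comp_pushJoin_map (D.map h) (D.map g₀) (map_w D h g₀) _ _ _).symm
  rw [e2, comp_map_comp, e1, Category.assoc,
    pushSplit_assoc (D.map g) (D.map h) (D.map g₀) (map_w D g h) (map_w D h g₀) (map_w D (g ≫ h) g₀)
      ((map_w D g (h ≫ g₀)).trans (congrArg D.map (Category.assoc g h g₀).symm)) (Injective.under (S.F m))]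
  exact injFam_congr S (Category.assoc g h g₀).symm (D.map (h ≫ g₀)) (D.map g) (map_w D g (h ≫ g₀)) _

/-- The injective system. -/
noncomputable def injSys : Sys D where
  F k := ∏ᶜ injFam S k
  ψ := injψ S
  ψ_id := injψ_id S
  ψ_comp := injψ_comp S

theorem injective_injSys (k : I) : Injective ((injSys S).F k) := by
  haveI : ∀ p : Σ m : I, (m ⟶ k), Injective (injFam S k p) := fun p => by
    haveI := EtSite.preservesFiniteLimits_pull (D.map p.2)
    exact Injective.injective_of_adjoint (EtCoh.pullPushAdj (D.map p.2)) _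
  exact inferInstanceAs (Injective (∏ᶜ injFam S k))

/-- The components of the embedding. -/
noncomputable def injι (k : I) : S.F k ⟶ ∏ᶜ injFam S k :=
  Pi.lift fun p => S.ψ p.2 ≫ (EtCoh.push (D.map p.2)).map (Injective.ι (S.F p.1))

theorem injι_π (k : I) (p : Σ m : I, (m ⟶ k)) :
    injι S k ≫ Pi.π (injFam S k) p = S.ψ p.2 ≫ (EtCoh.push (D.map p.2)).map (Injective.ι (S.F p.1)) :=
  Pi.lift_π _ _

theorem injι_comm {i j : I} (g₀ : j ⟶ i) :
    injι S i ≫ injψ S g₀ = S.ψ g₀ ≫ (EtCoh.push (D.map g₀)).map (injι S j) := by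
  refine pushHom_ext (D.map g₀) (J := injFam S j) fun ⟨m, g⟩ => ?_
  refine Eq.trans ?_ ((Category.assoc _ _ _).trans (congrArg (S.ψ g₀ ≫ ·)
    (((EtCoh.push (D.map g₀)).map_comp _ _).symm.trans
      (congrArg (EtCoh.push (D.map g₀)).map (injι_π S j ⟨m, g⟩))))).symm
  refine (Category.assoc _ _ _).trans ((congrArg (_ ≫ ·) (injψ_π S g₀ ⟨m, g⟩)).trans
    ((Category.assoc _ _ _).symm.trans ((congrArg (· ≫ _) (injι_π S i ⟨m, g ≫ g₀⟩)).trans ?_)))
  refine Eq.trans ?_ (comp_pushJoin_map_split (D.map g) (D.map g₀) (map_w D g g₀) (S.ψ g₀) (S.ψ g)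
    (Injective.ι (S.F m)))
  exact congrArg (fun z => (z ≫ _) ≫ _) (S.ψ_comp g g₀)

/-- The embedding. -/
noncomputable def injHom : Sys.Hom S (injSys S) where
  app k := injι S k
  comm g₀ := injι_comm S g₀

theorem mono_injHom (k : I) : Mono ((injHom S).app k) := by
  have e : (injHom S).app k ≫ Pi.π (injFam S k) ⟨k, 𝟙 k⟩ =
      pushUnit₀ (D.map (𝟙 k)) (D.map_id k) (S.F k) ≫ (EtCoh.push (D.map (𝟙 k))).map (Injective.ι (S.F k)) :=
    (injι_π S k ⟨k, 𝟙 k⟩).trans (congrArg (· ≫ _) (S.ψ_id k))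
  haveI := mono_pushUnit₀ (D.map (𝟙 k)) (D.map_id k) (S.F k)
  haveI : (EtCoh.push (D.map (𝟙 k))).PreservesMonomorphisms :=
    Functor.preservesMonomorphisms_of_isRightAdjoint _
  exact mono_of_mono_fac e

section Quot

variable {S} {T : Sys D} (φ : Sys.Hom S T)

/-- The quotient transition maps. -/
noncomputable def cokerψ {i j : I} (g : j ⟶ i) :
    cokernel (φ.app i) ⟶ (EtCoh.push (D.map g)).obj (cokernel (φ.app j)) :=
  cokernel.desc _ (T.ψ g ≫ (EtCoh.push (D.map g)).map (cokernel.π (φ.app j))) (by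
    haveI : (EtCoh.push (D.map g)).IsRightAdjoint := ⟨_, ⟨EtCoh.pullPushAdj (D.map g)⟩⟩
    haveI : (EtCoh.push (D.map g)).Additive := (EtCoh.pullPushAdj (D.map g)).right_adjoint_additive
    rw [reassoc_of% (φ.comm g), ← Functor.map_comp, cokernel.condition, Functor.map_zero, comp_zero])

theorem π_cokerψ {i j : I} (g : j ⟶ i) :
    cokernel.π (φ.app i) ≫ cokerψ φ g = T.ψ g ≫ (EtCoh.push (D.map g)).map (cokernel.π (φ.app j)) :=
  cokernel.π_desc _ _ _

/-- The quotient system. -/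
noncomputable def coker : Sys D where
  F k := cokernel (φ.app k)
  ψ := cokerψ φ
  ψ_id i := (cancel_epi (cokernel.π (φ.app i))).1 (by
    rw [π_cokerψ, T.ψ_id]; exact pushUnit₀_naturality _ _ _)
  ψ_comp {i j k} h g := (cancel_epi (cokernel.π (φ.app i))).1 (by
    refine (π_cokerψ φ (h ≫ g)).trans ((congrArg (· ≫ _) (T.ψ_comp h g)).trans ?_)
    refine (comp_pushJoin_map (D.map h) (D.map g) (map_w D h g) _ _ _).trans ?_
    rw [← π_cokerψ φ h, comp_map_comp, ← π_cokerψ φ g, Category.assoc])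

/-- The projection. -/
noncomputable def cokerHom : Sys.Hom T (coker φ) where
  app k := cokernel.π (φ.app k)
  comm g := π_cokerψ φ g

/-- The sequence at a stage. -/
noncomputable abbrev seqAt (k : I) : ShortComplex (EtCoh.Ab (D.obj k)) :=
  ShortComplex.mk (φ.app k) (cokernel.π (φ.app k)) (cokernel.condition _)

theorem seqAt_shortExact (k : I) [Mono (φ.app k)] : (seqAt φ k).ShortExact :=
  { exact := ShortComplex.exact_of_g_is_cokernel _ (cokernelIsCokernel _) }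

end Quot

end Groth.L27.LimCoh
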