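import Groth.Agent.L27.LimCoh.CanonLim
import Groth.Agent.L27.EtSite.Common
import Mathlib.CategoryTheory.Sites.EpiMono

/-! # A sheaf computing sections is the colimit of the inverse images -/

universe u

open CategoryTheory CategoryTheory.Limits AlgebraicGeometry Opposite

set_option backward.isDefEq.respectTransparency.types false
set_option linter.style.haveILetI false
set_option linter.unusedSectionVars false

namespace Groth.L27.LimCoh

variable {I : Type u} [SmallCategory I] {D : I ⥤ Scheme.{u}} {c : Cone D} {S : Sys D}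
  [IsCofiltered I] [∀ (j k : I) (f : j ⟶ k), IsAffineHom (D.map f)]
  [∀ i, CompactSpace (D.obj i)] [∀ i, QuasiSeparatedSpace (D.obj i)]

theorem exists_nhd {U : c.pt.Etale} (hc : IsLimit c) (x : U.left) :
    ∃ (i : I) (V : (D.obj i).Etale) (_ : Colim.Qcqs V) (q : (EtCoh.bc (prj c i)).obj V ⟶ U)
      (v : ((EtCoh.bc (prj c i)).obj V).left), q.left v = x := by
  haveI : AlgebraicGeometry.Etale U.hom := U.prop
  obtain ⟨_, ⟨O, hO, rfl⟩, hx, -⟩ :=
    U.left.isBasis_affineOpens.exists_subset_of_mem_open (Set.mem_univ x) isOpen_univ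
  let O' : U.left.Opens := O
  haveI : IsAffine O'.toScheme := hO
  haveI : AlgebraicGeometry.Etale (O'.ι ≫ U.hom) := inferInstance
  let W : c.pt.Etale := Scheme.Etale.mk (O'.ι ≫ U.hom)
  let ιO : W ⟶ U := MorphismProperty.Over.homMk O'.ι rfl
  have hW : Colim.Qcqs W :=
    ⟨inferInstanceAs (CompactSpace O'.toScheme), inferInstanceAs (QuasiSeparatedSpace O'.toScheme)⟩
  obtain ⟨i, V, hV, ⟨e⟩⟩ := exists_etale hc W hW
  refine ⟨i, V, hV, e.hom ≫ ιO, e.inv.left ⟨x, hx⟩, ?_⟩
  refine (Scheme.Hom.comp_apply _ _ _).trans ?_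
  exact congrArg ιO.left ((Scheme.Hom.comp_apply _ _ _).symm.trans
    (congrArg (fun m : W ⟶ W => m.left ⟨x, hx⟩) e.inv_hom_id))

/-- The comparison from the colimit. -/
noncomputable def toLim (L : Cocn S c) : colimit (diag c S) ⟶ L.M := colimit.desc (diag c S) L.cocone

theorem toLim_a (L : Cocn S c) (i : I) (V : (D.obj i).Etale) (s : (S.F i).obj.obj (op V)) :
    (toLim L).hom.app (op ((EtCoh.bc (prj c i)).obj V)) (((canon c S).a i).hom.app (op V) s) =
      (L.a i).hom.app (op V) s := by
  have e : (canon c S).a i ≫ (EtCoh.push (prj c i)).map (toLim L) = L.a i := by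
    refine ((EtCoh.pullPushAdj (prj c i)).homEquiv_naturality_right _ _).symm.trans ?_
    refine (congrArg _ (colimit.ι_desc L.cocone (op i))).trans ?_
    exact Equiv.apply_symm_apply _ _
  exact congrArg (fun m => m.hom.app (op V) s) e

theorem map_tr_injective (M : EtCoh.Ab c.pt) {i j : I} (g : j ⟶ i) (V : (D.obj i).Etale) :
    Function.Injective (M.obj.map (tr c g V).op) := fun x y h => by
  have key : ∀ z, M.obj.map ((join (prj c j) (D.map g) (prj_w c g)).app V).op (M.obj.map (tr c g V).op z) = z :=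
    fun z => (Functor.map_comp_apply M.obj _ _ _).symm.trans
      ((congrArg (fun l => M.obj.map (Quiver.Hom.op l) z) (join_split _ _ _ V)).trans (congr($(M.obj.map_id _) z)))
  exact (key x).symm.trans ((congrArg _ h).trans (key y))

theorem isIso_toLim (hc : IsLimit c) (L : Cocn S c) (hL : L.IsLim) : IsIso (toLim L) := by
  have hC := isLim_canon (S := S) hc
  have hinj : ∀ (i : I) (V : (D.obj i).Etale), Colim.Qcqs V →
      ∀ z, (toLim L).hom.app (op ((EtCoh.bc (prj c i)).obj V)) z = 0 → z = 0 := by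
    intro i V hV z hz
    obtain ⟨j, g, y, hy⟩ := hC.rep i V hV.1 hV.2 z
    have h0 : (L.a j).hom.app (op ((EtCoh.bc (D.map g)).obj V)) y = 0 := by
      rw [← toLim_a L j _ y, hy]
      exact (NatTrans.naturality_apply (toLim L).hom (tr c g V).op z).trans
        ((congrArg _ hz).trans (map_zero _))
    have hV' := qcqs_bc (D.map g) V hV
    obtain ⟨k, g', hk⟩ := hL.zero j _ hV'.1 hV'.2 y h0
    refine map_tr_injective _ g V (Eq.trans ?_ (map_zero _).symm)
    refine hy.symm.trans (map_tr_injective _ g' ((EtCoh.bc (D.map g)).obj V) (Eq.trans ?_ (map_zero _).symm))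
    exact ((canon c S).a_tr g' _ y).symm.trans ((congrArg _ hk).trans (map_zero _))
  have h1 : Sheaf.IsLocallyInjective (toLim L) := by
    refine ⟨fun {U} x y hxy => (EtSite.mem_topology_iff _).2 fun u => ?_⟩
    obtain ⟨i, V, hV, q, v, hv⟩ := exists_nhd hc (U := U.unop) u
    refine ⟨_, q, v, sub_eq_zero.1 ?_, hv⟩
    rw [← map_sub]
    refine hinj i V hV _ ((NatTrans.naturality_apply (toLim L).hom q.op _).trans ?_)
    rw [map_sub, show (toLim L).hom.app U x = (toLim L).hom.app U y from hxy, sub_self, map_zero]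
  have h2 : Sheaf.IsLocallySurjective (toLim L) := by
    refine ⟨fun {U} x => (EtSite.mem_topology_iff _).2 fun u => ?_⟩
    obtain ⟨i, V, hV, q, v, hv⟩ := exists_nhd hc (U := U) u
    obtain ⟨j, g, y, hy⟩ := hL.rep i V hV.1 hV.2 (L.M.obj.map q.op x)
    obtain ⟨v', hv'⟩ : ∃ v', (tr c g V).left v' = v :=
      ⟨((join (prj c j) (D.map g) (prj_w c g)).app V).left v, (Scheme.Hom.comp_apply _ _ _).symm.trans
        (congrArg (fun m : (EtCoh.bc (prj c i)).obj V ⟶ _ => m.left v) (join_split _ _ _ V))⟩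
    refine ⟨_, tr c g V ≫ q, v', ⟨((canon c S).a j).hom.app (op _) y, ?_⟩, ?_⟩
    · refine (toLim_a L j _ y).trans (hy.trans ?_)
      exact (Functor.map_comp_apply L.M.obj q.op (tr c g V).op x).symm
    · exact (Scheme.Hom.comp_apply _ _ _).trans ((congrArg q.left hv').trans hv)
  haveI := h1
  haveI := h2
  haveI : Mono (toLim L) := Sheaf.mono_of_isLocallyInjective _
  haveI : Epi (toLim L) := (Sheaf.isLocallySurjective_iff_epi' (φ := toLim L)).1 h2
  exact isIso_of_mono_of_epi _

end Groth.L27.LimCoh
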