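import Groth.Agent.L27.LimCoh.Main
import Groth.Agent.L27.LimCoh.Compare
import Groth.Prelude.Def_EtLim

/-! # The comparison for a sheaf computing sections -/

universe u

open CategoryTheory CategoryTheory.Limits AlgebraicGeometry Opposite

set_option backward.isDefEq.respectTransparency.types false
set_option linter.style.haveILetI false
set_option linter.unusedSectionVars false

namespace Groth.L27.LimCoh

variable {I : Type u} [SmallCategory I] {D : I ⥤ Scheme.{u}} {c : Cone D} {S : Sys D}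
  [∀ i, PreservesFiniteLimits (EtCoh.pull (prj c i))]
  [∀ {i j : I} (g : j ⟶ i), PreservesFiniteLimits (EtCoh.pull (D.map g))]
  [IsCofiltered I] [∀ (j k : I) (f : j ⟶ k), IsAffineHom (D.map f)]
  [∀ i, CompactSpace (D.obj i)] [∀ i, QuasiSeparatedSpace (D.obj i)]

/-- The map to cohomology with values in a receiving sheaf. -/
noncomputable abbrev ΦL (L : Cocn S c) (i : I) (n : ℕ) :
    EtCoh.H (D.obj i) (S.F i) n →+ EtCoh.H c.pt L.M n :=
  EtLim.HpullThen (prj c i) (S.F i) (((EtCoh.pullPushAdj (prj c i)).homEquiv _ _).symm (L.a i)) n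

/-- Cohomology with values in a sheaf computing sections is the colimit. -/
theorem commutes_isLim (hc : IsLimit c) (L : Cocn S c) (hL : L.IsLim) (n : ℕ) :
    (∀ ξ : EtCoh.H c.pt L.M n, ∃ (j : I) (e : EtCoh.H (D.obj j) (S.F j) n), ΦL L j n e = ξ) ∧
    ∀ (j : I) (e : EtCoh.H (D.obj j) (S.F j) n), ΦL L j n e = 0 →
      ∃ (k : I) (g : k ⟶ j), Tr S g n e = 0 := by
  haveI := isIso_toLim hc L hL
  obtain ⟨h1, h2⟩ := commutes hc n S
  have hΦ : ∀ j (e : EtCoh.H (D.obj j) (S.F j) n),
      ΦL L j n e = (EtCoh.HF c.pt n).map (toLim L) (Φ c S j n e) := fun j e => by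
    rw [← HpullThen_comp_map]
    exact congrArg (fun a => EtLim.HpullThen (prj c j) (S.F j) a n e) (colimit.ι_desc L.cocone (op j)).symm
  have hi : ∀ x, (EtCoh.HF c.pt n).map (inv (toLim L)) ((EtCoh.HF c.pt n).map (toLim L) x) = x := fun x => by
    rw [← HF_map_comp, IsIso.hom_inv_id, HF_map_eq, Sheaf.H.map_id_apply]
  refine ⟨fun ξ => ?_, fun j e he => h2 j e ?_⟩
  · obtain ⟨j, e, he⟩ := h1 ((EtCoh.HF c.pt n).map (inv (toLim L)) ξ)
    refine ⟨j, e, ?_⟩
    rw [hΦ, he, ← HF_map_comp, IsIso.inv_hom_id, HF_map_eq, Sheaf.H.map_id_apply]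
  · rw [hΦ] at he
    exact (hi _).symm.trans ((congrArg _ he).trans (map_zero _))

end Groth.L27.LimCoh
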