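import Groth.Agent.S0591
import Groth.Agent.L19.Limit.Smooth
import Groth.Agent.L19.Limit.Pullback
import Groth.Agent.L27.Colim.Etale

/-! # Quasi-compact quasi-separated etale schemes over a limit come from a stage -/

universe u

open CategoryTheory CategoryTheory.Limits AlgebraicGeometry Opposite

set_option backward.isDefEq.respectTransparency.types false
set_option linter.style.haveILetI false

namespace Groth.L27.LimCoh

variable {I : Type u} [SmallCategory I] [IsCofiltered I] {D : I ⥤ Scheme.{u}} {c : Cone D} (hc : IsLimit c)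
  [∀ (i j : I) (f : i ⟶ j), IsAffineHom (D.map f)] [∀ i, CompactSpace (D.obj i)]
  [∀ i, QuasiSeparatedSpace (D.obj i)]

include hc in
theorem isAffineHom_π (i : I) : IsAffineHom (c.π.app i) :=
  haveI : ∀ {a b : I} (f : a ⟶ b), IsAffineHom (D.map f) := inferInstance
  isAffineHom_π_app D c hc i

include hc in
theorem qcqs_pt : CompactSpace c.pt ∧ QuasiSeparatedSpace c.pt := by
  obtain ⟨i⟩ := IsCofiltered.nonempty (C := I)
  haveI : IsAffineHom (c.π.app i) := isAffineHom_π hc i
  haveI : CompactSpace ((Functor.const I).obj c.pt |>.obj i) :=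
    QuasiCompact.compactSpace_of_compactSpace (c.π.app i)
  exact ⟨QuasiCompact.compactSpace_of_compactSpace (c.π.app i),
    quasiSeparatedSpace_of_quasiSeparated (c.π.app i)⟩

include hc in
/-- An etale qcqs scheme over the limit is the base change of one over a stage. -/
theorem exists_obj {U : Scheme.{u}} (h : U ⟶ c.pt) [AlgebraicGeometry.Etale h] [CompactSpace U]
    [QuasiSeparatedSpace U] :
    ∃ (i : I) (Ui : Scheme.{u}) (hi : Ui ⟶ D.obj i) (g : U ⟶ Ui), AlgebraicGeometry.Etale hi ∧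
      CompactSpace Ui ∧ QuasiSeparatedSpace Ui ∧ IsPullback g h hi (c.π.app i) := by
  obtain ⟨_, _⟩ := qcqs_pt hc
  haveI : QuasiCompact h := quasiCompact_of_compactSpace h
  haveI : QuasiSeparated h := QuasiSeparated.of_comp h c.pt.toSpecΓ
  obtain ⟨i, Xi, fi, g, h1, h2, h3, sq⟩ := Groth.Agent.S0591.result D c hc U h
  haveI := h1
  haveI := h2
  haveI := h3
  haveI : ∀ {a b : I} (f : a ⟶ b), IsAffineHom (D.map f) := inferInstance
  obtain ⟨j, φ, hj⟩ := Groth.L19.Limit.descends_etale hc fi ⟨⟨h2, h3⟩, h1⟩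
    ((Groth.L19.Limit.pb_iff_of_isPullback sq).1 ‹AlgebraicGeometry.Etale h›)
  have w : c.π.app j ≫ D.map φ = c.π.app i := c.w φ
  let m : U ⟶ pullback (D.map φ) fi :=
    pullback.lift (h ≫ c.π.app j) g ((Category.assoc _ _ _).trans ((congrArg (h ≫ ·) w).trans sq.w.symm))
  refine ⟨j, pullback (D.map φ) fi, pullback.fst (D.map φ) fi, m, hj, ?_, ?_, ?_⟩
  · exact QuasiCompact.compactSpace_of_compactSpace (pullback.fst (D.map φ) fi)
  · exact quasiSeparatedSpace_of_quasiSeparated (pullback.fst (D.map φ) fi)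
  · refine IsPullback.of_right (h₁₂ := pullback.snd (D.map φ) fi) (h₂₂ := D.map φ) (v₁₃ := fi) ?_
      (pullback.lift_fst _ _ _) (IsPullback.of_hasPullback (D.map φ) fi).flip
    rw [w, show m ≫ pullback.snd (D.map φ) fi = g from pullback.lift_snd _ _ _]
    exact sq

include hc in
/-- A morphism of qcqs etale schemes over the limit is the base change of one over a stage. -/
theorem exists_hom {K L : c.pt.Etale} (p : L ⟶ K) (hK : Colim.Qcqs K) (hL : Colim.Qcqs L) :
    ∃ (i : I) (V W : (D.obj i).Etale) (m : W ⟶ V) (_ : Colim.Qcqs V) (_ : Colim.Qcqs W)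
      (eK : (EtCoh.bc (c.π.app i)).obj V ≅ K) (eL : (EtCoh.bc (c.π.app i)).obj W ≅ L),
      eL.hom ≫ p = (EtCoh.bc (c.π.app i)).map m ≫ eK.hom := by
  obtain ⟨_, _⟩ := hK
  obtain ⟨_, _⟩ := hL
  haveI : AlgebraicGeometry.Etale K.hom := K.prop
  haveI : AlgebraicGeometry.Etale p.left := EtSite.etale_left p
  let hK₀ : K.left ⟶ c.pt := K.hom
  haveI : AlgebraicGeometry.Etale hK₀ := K.prop
  obtain ⟨i, Ki, hi, gK, hiE, _, _, sqK⟩ := exists_obj hc hK₀
  haveI : ∀ {a b : I} (f : a ⟶ b), IsAffineHom (D.map f) := inferInstance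
  haveI : QuasiCompact hi := quasiCompact_of_compactSpace hi
  haveI : QuasiSeparated hi := QuasiSeparated.of_comp hi (D.obj i).toSpecΓ
  haveI : ∀ j : CategoryTheory.Over i, CompactSpace ((Groth.L19.Limit.bcDiagram D hi).obj j) := fun j =>
    QuasiCompact.compactSpace_of_compactSpace (X := pullback (D.map j.hom) hi) (pullback.fst (D.map j.hom) hi)
  haveI : ∀ j : CategoryTheory.Over i, QuasiSeparatedSpace ((Groth.L19.Limit.bcDiagram D hi).obj j) := fun j =>
    quasiSeparatedSpace_of_quasiSeparated (X := pullback (D.map j.hom) hi) (pullback.fst (D.map j.hom) hi)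
  let pL : L.left ⟶ (Groth.L19.Limit.sqCone sqK).pt := p.left
  haveI : AlgebraicGeometry.Etale pL := EtSite.etale_left p
  obtain ⟨J, Lj, hL', gL, hLE, _, _, sqL⟩ := exists_obj (Groth.L19.Limit.isLimitSqCone hc sqK) pL
  let j := J.left
  let V : (D.obj j).Etale :=
    haveI := hiE
    Scheme.Etale.mk (pullback.fst (D.map J.hom) hi)
  let q : Lj ⟶ V.left := hL'
  haveI : AlgebraicGeometry.Etale q := hLE
  haveI : AlgebraicGeometry.Etale V.hom := V.prop
  let W : (D.obj j).Etale := Scheme.Etale.mk (q ≫ V.hom)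
  let m : W ⟶ V := MorphismProperty.Over.homMk q rfl
  have sqV : IsPullback (Groth.L19.Limit.toStage sqK J) K.hom V.hom (c.π.app j) := by
    refine IsPullback.of_right (h₁₂ := pullback.snd (D.map J.hom) hi) (h₂₂ := D.map J.hom) (v₁₃ := hi) ?_
      (Groth.L19.Limit.toStage_fst sqK J) (IsPullback.of_hasPullback (D.map J.hom) hi).flip
    have key : ∀ {a : K.left ⟶ Ki} {b : c.pt ⟶ D.obj i}, a = gK → b = c.π.app i →
        IsPullback a K.hom hi b := by rintro _ _ rfl rfl; exact sqK
    exact key (Groth.L19.Limit.toStage_snd sqK J) (c.w J.hom)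
  have sqW : IsPullback gL L.hom W.hom (c.π.app j) := by
    have h' : IsPullback gL (p.left ≫ K.hom) (q ≫ V.hom) (c.π.app j) := IsPullback.paste_vert sqL sqV
    exact (MorphismProperty.Over.w p) ▸ h'
  let eK : (EtCoh.bc (c.π.app j)).obj V ≅ K :=
    MorphismProperty.Over.isoMk sqV.isoPullback.symm sqV.isoPullback_inv_snd
  let eL : (EtCoh.bc (c.π.app j)).obj W ≅ L :=
    MorphismProperty.Over.isoMk sqW.isoPullback.symm sqW.isoPullback_inv_snd
  refine ⟨j, V, W, m, ⟨inferInstanceAs (CompactSpace ↥((Groth.L19.Limit.bcDiagram D hi).obj J)),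
    inferInstanceAs (QuasiSeparatedSpace ↥((Groth.L19.Limit.bcDiagram D hi).obj J))⟩, ⟨‹_›, ‹_›⟩, eK, eL, ?_⟩
  refine MorphismProperty.Over.Hom.ext (sqV.hom_ext ?_ ?_)
  · show (sqW.isoPullback.inv ≫ p.left) ≫ _ = (((EtCoh.bc (c.π.app j)).map m).left ≫ sqV.isoPullback.inv) ≫ _
    refine (Category.assoc _ _ _).trans (Eq.trans ?_ ((Category.assoc _ _ _).trans
      (congrArg (((EtCoh.bc (c.π.app j)).map m).left ≫ ·) sqV.isoPullback_inv_fst)).symm)
    refine (congrArg (sqW.isoPullback.inv ≫ ·) sqL.w.symm).trans ?_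
    refine ((Category.assoc _ _ _).symm.trans (congrArg (· ≫ q) sqW.isoPullback_inv_fst)).trans ?_
    exact (EtCoh.isPullback_bc_map (c.π.app j) m).w.symm
  · exact (MorphismProperty.Over.w (eL.hom ≫ p)).trans
      (MorphismProperty.Over.w ((EtCoh.bc (c.π.app j)).map m ≫ eK.hom)).symm

include hc in
/-- An etale qcqs scheme over the limit, as an object. -/
theorem exists_etale (K : c.pt.Etale) (hK : Colim.Qcqs K) :
    ∃ (i : I) (V : (D.obj i).Etale) (_ : Colim.Qcqs V), Nonempty ((EtCoh.bc (c.π.app i)).obj V ≅ K) := by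
  obtain ⟨i, V, W, m, hV, hW, eK, -, -⟩ := exists_hom hc (𝟙 K) hK hK
  exact ⟨i, V, hV, ⟨eK⟩⟩

end Groth.L27.LimCoh
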