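import Groth.Agent.L27.LimCoh.Sys
import Groth.Agent.L27.LimCoh.Stage
import Groth.Agent.L27.Colim.Etale

/-! # Limits of systems of injectives are Cech acyclic -/

universe u

open CategoryTheory CategoryTheory.Limits AlgebraicGeometry Opposite

set_option backward.isDefEq.respectTransparency.types false
set_option linter.style.haveILetI false
set_option linter.unusedSectionVars false

namespace Groth.L27.LimCoh

open Colim

section Tuples

variable {X X' : Scheme.{u}} {K L : X.Etale} {p : L ⟶ K} {n : ℕ}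

/-- A universal tuple. -/
def Univ {Y : Scheme.{u}} {K L : Y.Etale} (p : L ⟶ K) {n : ℕ} {W : Y.Etale} (t : Tup p n W) : Prop :=
  ∀ (V : Y.Etale) (t' : Tup p n V), ∃! g : V ⟶ W, t.res g = t'

/-- The image of a tuple under base change. -/
noncomputable def bcTup (f : X' ⟶ X) {W : X.Etale} (t : Tup p n W) :
    Tup ((EtCoh.bc f).map p) n ((EtCoh.bc f).obj W) :=
  ⟨fun k => (EtCoh.bc f).map (t.1 k), fun k l => by
    rw [← Functor.map_comp, ← Functor.map_comp, t.2 k l]⟩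

theorem isPullback_of_lift {P A B C : X.Etale} {a : P ⟶ A} {b : P ⟶ B} {f : A ⟶ C} {g : B ⟶ C}
    (w : a ≫ f = b ≫ g)
    (h : ∀ (V : X.Etale) (u : V ⟶ A) (v : V ⟶ B), u ≫ f = v ≫ g → ∃! l : V ⟶ P, l ≫ a = u ∧ l ≫ b = v) :
    IsPullback a b f g :=
  IsPullback.of_isLimit' ⟨w⟩ (PullbackCone.IsLimit.mk w
    (fun s => (h s.pt s.fst s.snd s.condition).choose)
    (fun s => (h s.pt s.fst s.snd s.condition).choose_spec.1.1)
    (fun s => (h s.pt s.fst s.snd s.condition).choose_spec.1.2)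
    (fun s m e₁ e₂ => (h s.pt s.fst s.snd s.condition).choose_spec.2 m ⟨e₁, e₂⟩))

theorem univ_cons {Y : Scheme.{u}} {K L W P : Y.Etale} {p : L ⟶ K} {n : ℕ} {t : Tup p n W} (ht : Univ p t)
    {a : P ⟶ L} {b : P ⟶ W} (h : IsPullback a b p (t.1 0 ≫ p)) (s : Tup p (n + 1) P) (hs₀ : s.1 0 = a)
    (hs : ∀ k : Fin (n + 1), s.1 k.succ = b ≫ t.1 k) : Univ p s := fun V t' => by
  obtain ⟨g, hg, hgu⟩ := ht V ⟨fun k => t'.1 k.succ, fun k l => t'.2 _ _⟩
  have hgk : ∀ k, g ≫ t.1 k = t'.1 k.succ := fun k => congrFun (congrArg Subtype.val hg) k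
  have e : t'.1 0 ≫ p = g ≫ t.1 0 ≫ p := by rw [← Category.assoc, hgk, t'.2 0 (Fin.succ 0)]
  refine ⟨h.lift (t'.1 0) g e, Subtype.ext (funext fun k => ?_), fun l hl => ?_⟩
  · show h.lift (t'.1 0) g e ≫ s.1 k = _
    refine Fin.cases ?_ (fun i => ?_) k
    · rw [hs₀, h.lift_fst]
    · rw [hs, ← Category.assoc, h.lift_snd, hgk]
  · have h' : ∀ k, l ≫ s.1 k = t'.1 k := fun k => congrFun (congrArg Subtype.val hl) k
    refine h.hom_ext ?_ ?_
    · rw [h.lift_fst, ← h' 0, hs₀]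
    · rw [h.lift_snd]
      refine hgu _ (Subtype.ext (funext fun k => ?_))
      show (l ≫ b) ≫ t.1 k = t'.1 k.succ
      rw [Category.assoc, ← hs, h']

/-- Universal tuples which remain universal after any base change. -/
theorem exists_univ (p : L ⟶ K) (hK : Qcqs K) (hL : Qcqs L) (n : ℕ) :
    ∃ (W : X.Etale) (t : Tup p n W), Qcqs W ∧ Univ p t ∧
      ∀ (X' : Scheme.{u}) (f : X' ⟶ X), Univ ((EtCoh.bc f).map p) (bcTup f t) := by
  induction n with
  | zero =>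
    have h1 : ∀ {Y : Scheme.{u}} {K L : Y.Etale} (p : L ⟶ K) (t : Tup p 0 L), t.1 0 = 𝟙 L → Univ p t :=
      fun {_ _ _} p t ht V t' => ⟨t'.1 0, Subtype.ext (funext fun k => by
        rw [show k = 0 from Subsingleton.elim (α := Fin 1) k 0]
        exact (congrArg (t'.1 0 ≫ ·) ht).trans (Category.comp_id _)),
        fun g hg => ((Category.comp_id g).symm.trans (congrArg (g ≫ ·) ht.symm)).trans
          (congrFun (congrArg Subtype.val hg) 0)⟩
    exact ⟨L, ⟨fun _ => 𝟙 L, fun _ _ => rfl⟩, hL, h1 p _ rfl,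
      fun X' f => h1 _ _ ((EtCoh.bc f).map_id L)⟩
  | succ n ih =>
    obtain ⟨W, t, hW, ht, htf⟩ := ih
    obtain ⟨P, a, b, hP, hab, hlift⟩ := exists_pb_qcqs p (t.1 0 ≫ p) hL hW hK
    have hpb : IsPullback a b p (t.1 0 ≫ p) := isPullback_of_lift hab hlift
    have key : ∀ k : Fin (n + 1 + 1), (Fin.cons (α := fun _ => P ⟶ L) a (fun k => b ≫ t.1 k) k) ≫ p = a ≫ p :=
      fun k => by
        refine Fin.cases ?_ (fun i => ?_) k
        · rw [Fin.cons_zero]
        · rw [Fin.cons_succ, Category.assoc, t.2 i 0, hab]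
    refine ⟨P, ⟨Fin.cons a (fun k => b ≫ t.1 k), fun k l => (key k).trans (key l).symm⟩, hP,
      univ_cons ht hpb _ (Fin.cons_zero (α := fun _ => P ⟶ L) a (fun k => b ≫ t.1 k)) (fun k => Fin.cons_succ (α := fun _ => P ⟶ L) a (fun k => b ≫ t.1 k) k),
      fun X' f => ?_⟩
    refine univ_cons (htf X' f) (a := (EtCoh.bc f).map a) (b := (EtCoh.bc f).map b) ?_ _ ?_ ?_
    · have h := hpb.map (EtCoh.bc f)
      rw [Functor.map_comp] at h
      exact h
    · show (EtCoh.bc f).map (Fin.cons (α := fun _ => P ⟶ L) a (fun k => b ≫ t.1 k) 0) = _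
      rw [Fin.cons_zero]
    · intro k
      show (EtCoh.bc f).map (Fin.cons (α := fun _ => P ⟶ L) a (fun k => b ≫ t.1 k) k.succ) = _
      rw [Fin.cons_succ, Functor.map_comp]
      rfl

variable {P : (X.Etale)ᵒᵖ ⥤ AddCommGrpCat.{u + 1}}

theorem exists_fam {W : X.Etale} {t : Tup p n W} (ht : Univ p t) (v : P.obj (op W)) :
    ∃ b : Fam p P n, IsNat b ∧ b W t = v := by
  choose g hg hgu using ht
  refine ⟨fun V s => P.map (g V s).op v, fun {V V'} i s => ?_, ?_⟩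
  · show P.map (g V' (s.res i)).op v = P.map i.op (P.map (g V s).op v)
    rw [← hgu V' (s.res i) (i ≫ g V s) (by
      show t.res (i ≫ g V s) = s.res i
      rw [← Tup.res_res, hg V s])]
    exact Functor.map_comp_apply P _ _ v
  · show P.map (g W t).op v = v
    rw [← hgu W t (𝟙 W) (Subtype.ext (funext fun k => Category.id_comp _)), op_id, P.map_id]
    rfl

theorem fam_ext {W : X.Etale} {t : Tup p n W} (ht : Univ p t) {b b' : Fam p P n} (hb : IsNat b) (hb' : IsNat b')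
    (e : b W t = b' W t) : b = b' := by
  funext V s
  obtain ⟨g, hg, -⟩ := ht V s
  rw [← hg, hb g t, hb' g t, e]

end Tuples

variable {I : Type u} [SmallCategory I] {D : I ⥤ Scheme.{u}} {c : Cone D}

/-- A morphism over the limit presented at a stage. -/
structure Model (c : Cone D) {K L : c.pt.Etale} (p : L ⟶ K) where
  /-- The stage. -/
  i : I
  /-- The target. -/
  V : (D.obj i).Etale
  /-- The source. -/
  W : (D.obj i).Etale
  /-- The morphism. -/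
  m : W ⟶ V
  hV : Qcqs V
  hW : Qcqs W
  /-- The comparison of targets. -/
  eK : (EtCoh.bc (prj c i)).obj V ≅ K
  /-- The comparison of sources. -/
  eL : (EtCoh.bc (prj c i)).obj W ≅ L
  comm : eL.hom ≫ p = (EtCoh.bc (prj c i)).map m ≫ eK.hom

variable {K L : c.pt.Etale} {p : L ⟶ K} {n : ℕ}

/-- A stage tuple gives a tuple over the limit. -/
noncomputable def Model.pushT (μ : Model c p) {W₀ : (D.obj μ.i).Etale} (t : Tup μ.m n W₀) :
    Tup p n ((EtCoh.bc (prj c μ.i)).obj W₀) :=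
  ⟨fun k => (EtCoh.bc (prj c μ.i)).map (t.1 k) ≫ μ.eL.hom, fun k l => by
    rw [Category.assoc, Category.assoc, μ.comm, ← Category.assoc, ← Category.assoc, ← Functor.map_comp,
      ← Functor.map_comp, t.2 k l]⟩

theorem Model.pushT_res (μ : Model c p) {W₀ W₁ : (D.obj μ.i).Etale} (g : W₁ ⟶ W₀) (t : Tup μ.m n W₀) :
    μ.pushT (t.res g) = (μ.pushT t).res ((EtCoh.bc (prj c μ.i)).map g) := by
  refine Subtype.ext (funext fun k => ?_)
  show (EtCoh.bc (prj c μ.i)).map (g ≫ t.1 k) ≫ μ.eL.hom = _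
  rw [Functor.map_comp, Category.assoc]
  rfl

theorem Model.univ_pushT (μ : Model c p) {W₀ : (D.obj μ.i).Etale} (t : Tup μ.m n W₀)
    (h : Univ ((EtCoh.bc (prj c μ.i)).map μ.m) (bcTup (prj c μ.i) t)) : Univ p (μ.pushT t) := fun V t' => by
  let t'' : Tup ((EtCoh.bc (prj c μ.i)).map μ.m) n V := ⟨fun k => t'.1 k ≫ μ.eL.inv, fun k l => by
    refine (cancel_mono μ.eK.hom).1 ?_
    simp only [Category.assoc]
    rw [← μ.comm, Iso.inv_hom_id_assoc, t'.2 k l]⟩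
  obtain ⟨g, hg, hgu⟩ := h V t''
  refine ⟨g, Subtype.ext (funext fun k => ?_), fun l hl => hgu l (Subtype.ext (funext fun k => ?_))⟩
  · exact (Category.assoc _ _ _).symm.trans ((congrArg (· ≫ μ.eL.hom)
      (congrFun (congrArg Subtype.val hg) k)).trans ((Category.assoc _ _ _).trans
        ((congrArg (_ ≫ ·) μ.eL.inv_hom_id).trans (Category.comp_id _))))
  · show l ≫ (EtCoh.bc (prj c μ.i)).map (t.1 k) = t'.1 k ≫ μ.eL.inv
    rw [← congrFun (congrArg Subtype.val hl) k]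
    show _ = (l ≫ (EtCoh.bc (prj c μ.i)).map (t.1 k) ≫ μ.eL.hom) ≫ μ.eL.inv
    simp only [Category.assoc, Iso.hom_inv_id, Category.comp_id]

variable [∀ (j k : I) (f : j ⟶ k), IsAffineHom (D.map f)]

theorem qcqs_pull {i j : I} (g : j ⟶ i) (V : (D.obj i).Etale) (hV : Qcqs V) :
    Qcqs ((EtCoh.bc (D.map g)).obj V) := by
  obtain ⟨h1, h2⟩ := hV
  haveI : CompactSpace ↥((𝟭 Scheme.{u}).obj V.left) := h1
  haveI : QuasiSeparatedSpace ↥((𝟭 Scheme.{u}).obj V.left) := h2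
  exact ⟨QuasiCompact.compactSpace_of_compactSpace (X := pullback V.hom (D.map g)) (pullback.fst V.hom (D.map g)),
    quasiSeparatedSpace_of_quasiSeparated (X := pullback V.hom (D.map g)) (pullback.fst V.hom (D.map g))⟩

/-- The presentation at a later stage. -/
noncomputable def Model.pull (μ : Model c p) {j : I} (g : j ⟶ μ.i) : Model c p where
  i := j
  V := (EtCoh.bc (D.map g)).obj μ.V
  W := (EtCoh.bc (D.map g)).obj μ.W
  m := (EtCoh.bc (D.map g)).map μ.m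
  hV := qcqs_pull g _ μ.hV
  hW := qcqs_pull g _ μ.hW
  eK := splitIso (prj c j) (D.map g) (prj_w c g) μ.V ≪≫ μ.eK
  eL := splitIso (prj c j) (D.map g) (prj_w c g) μ.W ≪≫ μ.eL
  comm := by
    show ((tr c g μ.W) ≫ μ.eL.hom) ≫ p = _ ≫ (tr c g μ.V) ≫ μ.eK.hom
    rw [Category.assoc, μ.comm, ← Category.assoc, ← tr_nat g μ.m, Category.assoc]

theorem Model.pushT_pull (μ : Model c p) {j : I} (g : j ⟶ μ.i) {W₀ : (D.obj μ.i).Etale} (t : Tup μ.m n W₀) :
    (μ.pull g).pushT (bcTup (D.map g) t) = (μ.pushT t).res (tr c g W₀) := by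
  refine Subtype.ext (funext fun k => ?_)
  show (EtCoh.bc (prj c j)).map ((EtCoh.bc (D.map g)).map (t.1 k)) ≫ tr c g μ.W ≫ μ.eL.hom =
    tr c g W₀ ≫ (EtCoh.bc (prj c μ.i)).map (t.1 k) ≫ μ.eL.hom
  rw [← Category.assoc, tr_nat g (t.1 k), Category.assoc]

variable {S : Sys D} {Lc : Cocn S c}

/-- A stage family representing a family over the limit. -/
def Model.Rep (μ : Model c p) (b : Fam μ.m (S.F μ.i).obj n) (x : Fam p Lc.M.obj n) : Prop :=
  ∀ (V : (D.obj μ.i).Etale) (s : Tup μ.m n V),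
    (Lc.a μ.i).hom.app (op V) (b V s) = x _ (μ.pushT s)

theorem Model.rep_of_univ (μ : Model c p) {b : Fam μ.m (S.F μ.i).obj n} (hb : IsNat b) {x : Fam p Lc.M.obj n}
    (hx : IsNat x) {W₀ : (D.obj μ.i).Etale} {t : Tup μ.m n W₀} (ht : Univ μ.m t)
    (e : (Lc.a μ.i).hom.app (op W₀) (b W₀ t) = x _ (μ.pushT t)) : μ.Rep b x := fun V s => by
  obtain ⟨g, hg, -⟩ := ht V s
  rw [← hg, hb g t, μ.pushT_res, hx, ← e]
  exact NatTrans.naturality_apply (Lc.a μ.i).hom g.op _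

theorem Model.Rep.d {μ : Model c p} {b : Fam μ.m (S.F μ.i).obj n} {x : Fam p Lc.M.obj n} (h : μ.Rep b x) :
    μ.Rep (Colim.d b) (Colim.d x) := fun V s => by
  unfold Colim.d
  rw [map_sum]
  refine (Finset.sum_congr rfl fun j _ => ?_).trans rfl
  rw [map_zsmul]
  exact congrArg _ (h V (s.face j))

variable [IsCofiltered I] [∀ i, CompactSpace (D.obj i)] [∀ i, QuasiSeparatedSpace (D.obj i)]

theorem acyc_of_isLim (hc : IsLimit c) (hL : Lc.IsLim) (hI : ∀ i, Injective (S.F i)) :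
    Acyc (Qcqs (X := c.pt)) Lc.M := by
  intro K L p hK hLq _ n x hx hdx
  obtain ⟨i₀, V₀, W₀, m₀, hV₀, hW₀, eK₀, eL₀, hcomm⟩ := exists_hom hc p hK hLq
  let μ₀ : Model c p := ⟨i₀, V₀, W₀, m₀, hV₀, hW₀, eK₀, eL₀, hcomm⟩
  -- a stage family representing `x`
  obtain ⟨μ, b, hb, hbx⟩ : ∃ (μ : Model c p) (b : Fam μ.m (S.F μ.i).obj (n + 1)), IsNat b ∧ μ.Rep b x := by
    obtain ⟨T, t, hT, ht, htf⟩ := exists_univ μ₀.m μ₀.hV μ₀.hW (n + 1)
    obtain ⟨j, g, y, hy⟩ := hL.rep μ₀.i T hT.1 hT.2 (x _ (μ₀.pushT t))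
    obtain ⟨b, hb, hby⟩ := exists_fam (P := (S.F j).obj) (htf _ (D.map g)) y
    refine ⟨μ₀.pull g, b, hb, (μ₀.pull g).rep_of_univ hb hx (htf _ (D.map g)) ?_⟩
    refine (congrArg ((Lc.a j).hom.app _) hby).trans (hy.trans ?_)
    exact (hx (tr c g T) (μ₀.pushT t)).symm.trans (congrArg (x _) (μ₀.pushT_pull g t).symm)
  -- a later one which is closed
  obtain ⟨μ', b', hb', hbx', hdb'⟩ : ∃ (μ' : Model c p) (b' : Fam μ'.m (S.F μ'.i).obj (n + 1)),
      IsNat b' ∧ μ'.Rep b' x ∧ d b' = 0 := by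
    obtain ⟨T₁, t₁, hT₁, ht₁, ht₁f⟩ := exists_univ μ.m μ.hV μ.hW (n + 1)
    obtain ⟨T₂, t₂, hT₂, ht₂, ht₂f⟩ := exists_univ μ.m μ.hV μ.hW (n + 1 + 1)
    obtain ⟨j, g, hg⟩ := hL.zero μ.i T₂ hT₂.1 hT₂.2 (d b T₂ t₂) ((hbx.d T₂ t₂).trans (congrFun (congrFun hdx _) _))
    obtain ⟨b', hb', hby⟩ := exists_fam (P := (S.F j).obj) (ht₁f _ (D.map g))
      (S.res g (fstB (D.map g) T₁) (fstB_w (D.map g) T₁) (b T₁ t₁))
    refine ⟨μ.pull g, b', hb', (μ.pull g).rep_of_univ hb' hx (ht₁f _ (D.map g)) ?_,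
      fam_ext (ht₂f _ (D.map g)) hb'.d (fun {_ _} i _ => (map_zero ((S.F j).obj.map i.op).hom).symm) ?_⟩
    · refine (congrArg ((Lc.a j).hom.app _) hby).trans ((Lc.a_tr g T₁ _).trans ?_)
      refine (congrArg (Lc.M.obj.map _) (hbx T₁ t₁)).trans ?_
      exact (hx (tr c g T₁) (μ.pushT t₁)).symm.trans (congrArg (x _) (μ.pushT_pull g t₁).symm)
    · refine Eq.trans ?_ hg
      show ∑ k : Fin (n + 1 + 2), (-1 : ℤ) ^ (k : ℕ) • b' _ ((bcTup (D.map g) t₂).face k) =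
        S.res g _ _ (∑ k : Fin (n + 1 + 2), (-1 : ℤ) ^ (k : ℕ) • b T₂ (t₂.face k))
      rw [map_sum]
      refine Finset.sum_congr rfl fun k _ => ?_
      rw [map_zsmul]
      refine congrArg _ ?_
      obtain ⟨u, hu, -⟩ := ht₁ T₂ (t₂.face k)
      have e : (bcTup (D.map g) t₂).face k = (bcTup (D.map g) t₁).res ((EtCoh.bc (D.map g)).map u) := by
        refine Subtype.ext (funext fun l => ?_)
        exact (congrArg (EtCoh.bc (D.map g)).map (congrFun (congrArg Subtype.val hu) l).symm).trans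
          ((EtCoh.bc (D.map g)).map_comp _ _)
      rw [← hu, hb u t₁, e, hb' ((EtCoh.bc (D.map g)).map u) (bcTup (D.map g) t₁), hby]
      rw [S.res_map g _ _ u _ (by rw [Category.assoc, MorphismProperty.Over.w u, fstB_w]) rfl]
      exact S.map_res g _ _ ((EtCoh.bc (D.map g)).map u) _ _ (fstB_nat (D.map g) u) _
  -- fill it by injectivity
  haveI : Injective (S.F μ'.i).obj :=
    haveI := hI μ'.i
    Injective.injective_of_adjoint (sheafificationAdjunction _ AddCommGrpCat.{u + 1}) (S.F μ'.i)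
  obtain ⟨y, hy, hdy⟩ := cechExact_of_injective n b' hb' hdb'
  obtain ⟨T₀, t₀, -, ht₀, ht₀f⟩ := exists_univ μ'.m μ'.hV μ'.hW n
  obtain ⟨T₁, t₁, -, ht₁, ht₁f⟩ := exists_univ μ'.m μ'.hV μ'.hW (n + 1)
  obtain ⟨x', hx', hx'y⟩ := exists_fam (P := Lc.M.obj) (μ'.univ_pushT t₀ (ht₀f _ _))
    ((Lc.a μ'.i).hom.app (op T₀) (y T₀ t₀))
  refine ⟨x', hx', fam_ext (μ'.univ_pushT t₁ (ht₁f _ _)) hx'.d hx ?_⟩
  have hrep : μ'.Rep y x' := μ'.rep_of_univ hy hx' ht₀ hx'y.symm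
  rw [← hrep.d T₁ t₁, hdy, hbx']

end Groth.L27.LimCoh
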