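import Groth.Agent.L27.LimCoh.Canon
import Groth.Agent.L27.LimCoh.Embed
import Mathlib.CategoryTheory.Abelian.GrothendieckAxioms.Basic
import Mathlib.CategoryTheory.Abelian.GrothendieckAxioms.FunctorCategory
import Mathlib.CategoryTheory.Abelian.FunctorCategory
import Mathlib.Algebra.Homology.ShortComplex.PreservesHomology

/-! # Short exact sequences of systems give short exact sequences on the limit -/

universe u

open CategoryTheory CategoryTheory.Limits AlgebraicGeometry Opposite

set_option backward.isDefEq.respectTransparency.types false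
set_option linter.style.haveILetI false
set_option linter.unusedSectionVars false

namespace Groth.L27.LimCoh

theorem exact_of_evaluation {J : Type u} [SmallCategory J] {C : Type (u + 2)} [Category.{u + 1} C] [Abelian C]
    (E : ShortComplex (J ⥤ C)) (h : ∀ j, (E.map ((evaluation J C).obj j)).Exact) : E.Exact := by
  rw [ShortComplex.exact_iff_isZero_homology]
  exact Functor.isZero _ fun j =>
    IsZero.of_iso ((ShortComplex.exact_iff_isZero_homology _).1 (h j))
      (E.mapHomologyIso ((evaluation J C).obj j)).symm

variable {I : Type u} [SmallCategory I] {D : I ⥤ Scheme.{u}} (c : Cone D)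

/-- The morphism on the limit sheaves. -/
noncomputable def canonMap {S T : Sys D} (φ : Sys.Hom S T) :
    colimit (diag c S) ⟶ colimit (diag c T) :=
  colimMap (diagMap φ)

theorem ι_canonMap {S T : Sys D} (φ : Sys.Hom S T) (i : I) :
    colimit.ι (diag c S) (op i) ≫ canonMap c φ =
      (EtCoh.pull (prj c i)).map (φ.app i) ≫ colimit.ι (diag c T) (op i) :=
  ι_colimMap (diagMap φ) (op i)

variable {S T : Sys D} (φ : Sys.Hom S T)

theorem canonMap_comp : canonMap c φ ≫ canonMap c (cokerHom φ) = 0 := by
  refine colimit.hom_ext fun i => ?_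
  obtain ⟨i⟩ := i
  refine ((Category.assoc _ _ _).symm.trans ((congrArg (· ≫ _) (ι_canonMap c φ i)).trans
    ((Category.assoc _ _ _).trans ((congrArg (_ ≫ ·) (ι_canonMap c (cokerHom φ) i)).trans
      ((Category.assoc _ _ _).symm.trans ?_))))).trans comp_zero.symm
  refine (congrArg (· ≫ _) (((EtCoh.pull (prj c i)).map_comp _ _).symm.trans
    ((congrArg (EtCoh.pull (prj c i)).map (cokernel.condition (φ.app i))).trans
      (Functor.map_zero _ _ _)))).trans ?_
  exact zero_comp

/-- The sequence on the limit. -/
noncomputable abbrev limSeq : ShortComplex (EtCoh.Ab c.pt) :=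
  ShortComplex.mk (canonMap c φ) (canonMap c (cokerHom φ)) (canonMap_comp c φ)

variable [IsCofiltered I]

theorem limSeq_shortExact (hφ : ∀ k, Mono (φ.app k)) : (limSeq c φ).ShortExact := by
  let E : ShortComplex (Iᵒᵖ ⥤ EtCoh.Ab c.pt) :=
    ShortComplex.mk (diagMap φ) (diagMap (cokerHom φ)) (by
      refine NatTrans.ext (funext fun i => ?_)
      exact ((EtCoh.pull (prj c i.unop)).map_comp _ _).symm.trans
        ((congrArg (EtCoh.pull (prj c i.unop)).map (cokernel.condition (φ.app i.unop))).trans
          (Functor.map_zero _ _ _)))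
  have hE : ∀ i : Iᵒᵖ, (E.map ((evaluation Iᵒᵖ _).obj i)).ShortExact := fun i => by
    haveI := EtSite.preservesFiniteLimits_pull (prj c i.unop)
    haveI := hφ i.unop
    exact (seqAt_shortExact φ i.unop).map_of_exact (EtCoh.pull (prj c i.unop))
  haveI : Mono E.f := by
    haveI : ∀ i, Mono (E.f.app i) := fun i => (hE i).mono_f
    exact NatTrans.mono_of_mono_app _
  haveI : Epi E.g := by
    haveI : ∀ i, Epi (E.g.app i) := fun i => (hE i).epi_g
    exact NatTrans.epi_of_epi_app _
  have hS : E.ShortExact := { exact := exact_of_evaluation E fun i => (hE i).exact }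
  haveI : AB5OfSize.{u, u} (EtCoh.Ab c.pt) := AB5OfSize_shrink.{u, u, u + 1, u + 1} _
  haveI : HasExactColimitsOfShape Iᵒᵖ (EtCoh.Ab c.pt) := inferInstance
  haveI : PreservesFiniteLimits (colim (J := Iᵒᵖ) (C := EtCoh.Ab c.pt)) :=
    HasExactColimitsOfShape.preservesFiniteLimits
  exact hS.map_of_exact colim

end Groth.L27.LimCoh
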