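import Groth.Agent.L27.LimCoh.CanonLim
import Groth.Agent.L27.LimCoh.Exact
import Groth.Agent.L27.LimCoh.Acyclic
import Groth.Agent.L27.LimCoh.HComp

/-! # Etale cohomology of a limit of schemes -/

universe u

open CategoryTheory CategoryTheory.Limits AlgebraicGeometry Opposite

set_option backward.isDefEq.respectTransparency.types false
set_option linter.style.haveILetI false
set_option linter.unusedSectionVars false

namespace Groth.L27.LimCoh

variable {I : Type u} [SmallCategory I] {D : I ⥤ Scheme.{u}} (c : Cone D) (S : Sys D)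
  [∀ i, PreservesFiniteLimits (EtCoh.pull (prj c i))]
  [∀ {i j : I} (g : j ⟶ i), PreservesFiniteLimits (EtCoh.pull (D.map g))]

/-- The leg of the colimit. -/
noncomputable abbrev leg (i : I) : (EtCoh.pull (prj c i)).obj (S.F i) ⟶ colimit (diag c S) :=
  colimit.ι (diag c S) (op i)

/-- The map to the cohomology of the limit. -/
noncomputable abbrev Φ (i : I) (n : ℕ) :
    EtCoh.H (D.obj i) (S.F i) n →+ EtCoh.H c.pt (colimit (diag c S)) n :=
  EtLim.HpullThen (prj c i) (S.F i) (leg c S i) n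

/-- The transition maps. -/
noncomputable abbrev Tr {i j : I} (g : j ⟶ i) (n : ℕ) :
    EtCoh.H (D.obj i) (S.F i) n →+ EtCoh.H (D.obj j) (S.F j) n :=
  EtLim.HpullThen (D.map g) (S.F i) (((EtCoh.pullPushAdj (D.map g)).homEquiv _ _).symm (S.ψ g)) n

theorem Φ_Tr {i j : I} (g : j ⟶ i) (n : ℕ) (e : EtCoh.H (D.obj i) (S.F i) n) :
    Φ c S j n (Tr S g n e) = Φ c S i n e := by
  have h := HpullThen_comp (prj c j) (D.map g) (prj_w c g) (S.F i) (S.ψ g) ((canon c S).a j)
    ((canon c S).a i) ((canon c S).comm g) n e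
  have hs : ∀ i, ((EtCoh.pullPushAdj (prj c i)).homEquiv _ _).symm ((canon c S).a i) = leg c S i :=
    fun i => Equiv.symm_apply_apply _ _
  rw [hs, hs] at h
  exact h

omit [∀ i, PreservesFiniteLimits (EtCoh.pull (prj c i))] in
theorem Tr_Tr {i j k : I} (h : k ⟶ j) (g : j ⟶ i) (n : ℕ) (e : EtCoh.H (D.obj i) (S.F i) n) :
    Tr S h n (Tr S g n e) = Tr S (h ≫ g) n e :=
  HpullThen_comp (D.map h) (D.map g) (map_w D h g) (S.F i) (S.ψ g) (S.ψ h) (S.ψ (h ≫ g)) (S.ψ_comp h g) n e

variable {c S} {S' : Sys D} (φ : Sys.Hom S S')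

theorem Φ_map (i : I) (n : ℕ) (e : EtCoh.H (D.obj i) (S.F i) n) :
    Φ c S' i n ((EtCoh.HF (D.obj i) n).map (φ.app i) e) =
      (EtCoh.HF c.pt n).map (canonMap c φ) (Φ c S i n e) := by
  rw [← HpullThen_comp_map, HpullThen_map]
  exact congrArg (fun a => EtLim.HpullThen (prj c i) (S.F i) a n e) (ι_canonMap c φ i).symm

omit [∀ i, PreservesFiniteLimits (EtCoh.pull (prj c i))] in
theorem hat_comm {i j : I} (g : j ⟶ i) :
    ((EtCoh.pullPushAdj (D.map g)).homEquiv _ _).symm (S.ψ g) ≫ φ.app j =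
      (EtCoh.pull (D.map g)).map (φ.app i) ≫ ((EtCoh.pullPushAdj (D.map g)).homEquiv _ _).symm (S'.ψ g) := by
  rw [← Adjunction.homEquiv_naturality_left_symm, φ.comm g, Adjunction.homEquiv_naturality_right_symm]

omit [∀ i, PreservesFiniteLimits (EtCoh.pull (prj c i))] in
theorem Tr_map {i j : I} (g : j ⟶ i) (n : ℕ) (e : EtCoh.H (D.obj i) (S.F i) n) :
    Tr S' g n ((EtCoh.HF (D.obj i) n).map (φ.app i) e) = (EtCoh.HF (D.obj j) n).map (φ.app j) (Tr S g n e) := by
  rw [← HpullThen_comp_map, HpullThen_map, hat_comm φ g]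

variable (c S)

/-- Cohomology in degree `n` of the limit is the colimit. -/
def Commutes (n : ℕ) : Prop :=
  (∀ ξ : EtCoh.H c.pt (colimit (diag c S)) n, ∃ (j : I) (e : EtCoh.H (D.obj j) (S.F j) n), Φ c S j n e = ξ) ∧
    ∀ (j : I) (e : EtCoh.H (D.obj j) (S.F j) n), Φ c S j n e = 0 →
      ∃ (k : I) (g : k ⟶ j), Tr S g n e = 0

variable [IsCofiltered I] [∀ (j k : I) (f : j ⟶ k), IsAffineHom (D.map f)]
  [∀ i, CompactSpace (D.obj i)] [∀ i, QuasiSeparatedSpace (D.obj i)] (hc : IsLimit c)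

variable {c S}

theorem res_fstB {i j : I} (g : j ⟶ i) (V : (D.obj i).Etale) (s : (S.F i).obj.obj (op V)) :
    S.res g (fstB (D.map g) V) (fstB_w (D.map g) V) s = (S.ψ g).hom.app (op V) s := by
  rw [S.res_apply]
  refine Eq.trans ?_ (congr($((S.F j).obj.map_id _) ((S.ψ g).hom.app (op V) s)))
  exact congrArg (fun l => (S.F j).obj.map (Quiver.Hom.op l) ((S.ψ g).hom.app (op V) s))
    (bc_hom_ext _ ((lift_fstB _ _ _).trans (Category.id_comp _).symm))

theorem map_iso_injective {X : Scheme.{u}} (F : EtCoh.Ab X) {U V : X.Etale} (e : U ≅ V) :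
    Function.Injective (F.obj.map e.hom.op) := fun x y h => by
  have key : ∀ z, F.obj.map e.inv.op (F.obj.map e.hom.op z) = z := fun z =>
    (Functor.map_comp_apply F.obj _ _ _).symm.trans
      ((congrArg (fun l => F.obj.map (Quiver.Hom.op l) z) e.inv_hom_id).trans (congr($(F.obj.map_id _) z)))
  exact (key x).symm.trans ((congrArg (F.obj.map e.inv.op) h).trans (key y))

include hc in
theorem commutes_zero (S : Sys D) : Commutes c S 0 := by
  have hL := isLim_canon (S := S) hc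
  have hsec : ∀ i (e : EtCoh.H (D.obj i) (S.F i) 0), secEq _ (Φ c S i 0 e) =
      (colimit (diag c S)).obj.map (EtCore.bcTopIso (prj c i)).inv.op
        (((canon c S).a i).hom.app (op (EtCoh.top (D.obj i))) (secEq _ e)) :=
    fun i e => secEq_HpullThen (prj c i) (S.F i) (leg c S i) e
  have hq : ∀ i, CompactSpace (EtCoh.top (D.obj i)).left ∧ QuasiSeparatedSpace (EtCoh.top (D.obj i)).left :=
    fun i => ⟨inferInstanceAs (CompactSpace (D.obj i)), inferInstanceAs (QuasiSeparatedSpace (D.obj i))⟩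
  refine ⟨fun ξ => ?_, fun i e he => ?_⟩
  · obtain ⟨i⟩ := IsCofiltered.nonempty (C := I)
    obtain ⟨j, g, y, hy⟩ := hL.rep i _ (hq i).1 (hq i).2
      ((colimit (diag c S)).obj.map (EtCore.bcTopIso (prj c i)).hom.op (secEq _ ξ))
    refine ⟨j, (secEq _).symm ((S.F j).obj.map (EtCore.bcTopIso (D.map g)).inv.op y), (secEq _).injective ?_⟩
    rw [hsec, AddEquiv.apply_symm_apply]
    refine (congrArg ((colimit (diag c S)).obj.map _)
      ((NatTrans.naturality_apply ((canon c S).a j).hom _ y).trans (congrArg _ hy))).trans ?_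
    refine (congrArg ((colimit (diag c S)).obj.map _) ((congrArg _ (Functor.map_comp_apply
      (colimit (diag c S)).obj _ _ _).symm).trans (Functor.map_comp_apply (colimit (diag c S)).obj _ _ _).symm)).trans ?_
    refine (Functor.map_comp_apply (colimit (diag c S)).obj _ _ _).symm.trans ?_
    refine Eq.trans ?_ (congr($((colimit (diag c S)).obj.map_id _) (secEq (colimit (diag c S)) ξ)))
    exact congrArg (fun l => (colimit (diag c S)).obj.map (Quiver.Hom.op l) (secEq (colimit (diag c S)) ξ))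
      ((EtCore.topIsTerminal c.pt).hom_ext _ (𝟙 _))
  · have h0 : ((canon c S).a i).hom.app (op (EtCoh.top (D.obj i))) (secEq _ e) = 0 := by
      refine map_iso_injective _ (EtCore.bcTopIso (prj c i)).symm ?_
      exact (hsec i e).symm.trans (((congrArg (secEq _) he).trans (map_zero _)).trans (map_zero _).symm)
    obtain ⟨j, g, hg⟩ := hL.zero i _ (hq i).1 (hq i).2 _ h0
    refine ⟨j, g, (secEq _).injective ?_⟩
    rw [secEq_HpullThen, Equiv.apply_symm_apply, map_zero]
    exact (congrArg ((S.F j).obj.map _) ((res_fstB g _ _).symm.trans hg)).trans (map_zero _)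

theorem Φ_δH {S T : Sys D} (φ : Sys.Hom S T) (k : I) (hE : (seqAt φ k).ShortExact)
    (hEc : (limSeq c φ).ShortExact) (n : ℕ) (y : EtCoh.H (D.obj k) ((coker φ).F k) n) :
    Φ c S k (n + 1) (δH hE n y) = δH hEc n (Φ c (coker φ) k n y) :=
  HpullThen_δH (prj c k) hE hEc (ShortComplex.homMk (leg c S k) (leg c T k) (leg c (coker φ) k)
    (ι_canonMap c φ k) (ι_canonMap c (cokerHom φ) k)) n y

theorem Tr_δH {S T : Sys D} (φ : Sys.Hom S T) {k m : I} (g : m ⟶ k) (hE : (seqAt φ k).ShortExact)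
    (hE' : (seqAt φ m).ShortExact) (n : ℕ) (y : EtCoh.H (D.obj k) ((coker φ).F k) n) :
    Tr S g (n + 1) (δH hE n y) = δH hE' n (Tr (coker φ) g n y) :=
  HpullThen_δH (D.map g) hE hE' (ShortComplex.homMk _ _ _ (hat_comm φ g) (hat_comm (cokerHom φ) g)) n y

include hc in
theorem subsingleton_succ {T : Sys D} (hT : ∀ k, Injective (T.F k)) (n : ℕ) :
    Subsingleton (EtCoh.H c.pt (colimit (diag c T)) (n + 1)) :=
  Colim.subsingleton_H_of_acyc Colim.good (EtCore.topIsTerminal c.pt) (hT₀ := qcqs_pt hc) n _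
    (acyc_of_isLim (Lc := canon c T) hc (isLim_canon hc) hT)

theorem rep_succ {S T : Sys D} (φ : Sys.Hom S T) (hφ : ∀ k, Mono (φ.app k))
    (n : ℕ) (hT : Subsingleton (EtCoh.H c.pt (colimit (diag c T)) (n + 1))) (hQ : Commutes c (coker φ) n)
    (ξ : EtCoh.H c.pt (colimit (diag c S)) (n + 1)) :
    ∃ (j : I) (e : EtCoh.H (D.obj j) (S.F j) (n + 1)), Φ c S j (n + 1) e = ξ := by
  haveI := hφ
  have hEc := limSeq_shortExact c φ hφ
  obtain ⟨y, hy⟩ := exists_δH hEc n ξ
    (Subsingleton.elim (α := EtCoh.H c.pt (colimit (diag c T)) (n + 1)) _ _)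
  obtain ⟨j, y', hy'⟩ := hQ.1 y
  exact ⟨j, δH (seqAt_shortExact φ j) n y', (Φ_δH φ j _ hEc n y').trans ((congrArg (δH hEc n) hy').trans hy)⟩

theorem zero_succ {S T : Sys D} (φ : Sys.Hom S T) (hφ : ∀ k, Mono (φ.app k)) (hT : ∀ k, Injective (T.F k))
    (n : ℕ) (hQ : Commutes c (coker φ) n) (hI : Commutes c T n)
    (j : I) (e : EtCoh.H (D.obj j) (S.F j) (n + 1)) (he : Φ c S j (n + 1) e = 0) :
    ∃ (k : I) (g : k ⟶ j), Tr S g (n + 1) e = 0 := by
  haveI := hφ
  have hEc := limSeq_shortExact c φ hφ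
  haveI := hT j
  obtain ⟨y, hy⟩ : ∃ y, δH (seqAt_shortExact φ j) n y = e :=
    exists_δH (seqAt_shortExact φ j) n e (eq_zero_of_injective (T.F j) n _)
  rw [← hy, Φ_δH φ j _ hEc n y] at he
  obtain ⟨θ, hθ⟩ := exists_map_of_δH_eq_zero hEc n _ he
  obtain ⟨k, θ', hθ'⟩ := hI.1 θ
  let m := IsCofiltered.min j k
  let a : m ⟶ j := IsCofiltered.minToLeft j k
  let b : m ⟶ k := IsCofiltered.minToRight j k
  let w : EtCoh.H (D.obj m) ((coker φ).F m) n :=
    (EtCoh.HF (D.obj m) n).map ((cokerHom φ).app m) (Tr T b n θ')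
  have hw : Φ c (coker φ) m n w = Φ c (coker φ) j n y :=
    (Φ_map (cokerHom φ) m n _).trans
      ((congrArg ((EtCoh.HF c.pt n).map (canonMap c (cokerHom φ))) ((Φ_Tr c T b n θ').trans hθ')).trans hθ)
  obtain ⟨r, g, hg⟩ := hQ.2 m (Tr (coker φ) a n y - w) (by rw [map_sub, Φ_Tr, hw, sub_self])
  refine ⟨r, g ≫ a, ?_⟩
  rw [map_sub, sub_eq_zero, Tr_Tr] at hg
  rw [← hy, Tr_δH φ (g ≫ a) _ (seqAt_shortExact φ r), hg]
  exact (congrArg (δH (seqAt_shortExact φ r) n) (Tr_map (cokerHom φ) g n _)).trans (δH_map_g _ n _)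

include hc in
/-- Cohomology of a limit of qcqs schemes with affine transition maps is the colimit. -/
theorem commutes (n : ℕ) : ∀ S : Sys D, Commutes c S n := by
  induction n with
  | zero => exact commutes_zero hc
  | succ n ih =>
    exact fun S => ⟨rep_succ (injHom S) (mono_injHom S) n (subsingleton_succ hc (injective_injSys S) n) (ih _),
      zero_succ (injHom S) (mono_injHom S) (injective_injSys S) n (ih _) (ih _)⟩

end Groth.L27.LimCoh
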