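import Groth.Agent.L27.LimCoh.Unit
import Groth.Agent.L27.LimCoh.Stage
import Groth.Agent.L27.Colim.Etale

/-! # The colimit of inverse images computes sections on the limit -/

universe u

open CategoryTheory CategoryTheory.Limits AlgebraicGeometry Opposite

set_option backward.isDefEq.respectTransparency.types false
set_option linter.style.haveILetI false
set_option linter.unusedSectionVars false

namespace Groth.L27.LimCoh

variable {I : Type u} [SmallCategory I] {D : I ⥤ Scheme.{u}} {c : Cone D} {S : Sys D}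

theorem qcqs_bc {X Y : Scheme.{u}} (f : X ⟶ Y) [IsAffineHom f] (V : Y.Etale) (hV : Colim.Qcqs V) :
    Colim.Qcqs ((EtCoh.bc f).obj V) := by
  obtain ⟨h1, h2⟩ := hV
  haveI : CompactSpace ↥((𝟭 Scheme.{u}).obj V.left) := h1
  haveI : QuasiSeparatedSpace ↥((𝟭 Scheme.{u}).obj V.left) := h2
  exact ⟨QuasiCompact.compactSpace_of_compactSpace (X := pullback V.hom f) (pullback.fst V.hom f),
    quasiSeparatedSpace_of_quasiSeparated (X := pullback V.hom f) (pullback.fst V.hom f)⟩

variable [IsCofiltered I] [∀ (j k : I) (f : j ⟶ k), IsAffineHom (D.map f)]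
  [∀ i, CompactSpace (D.obj i)] [∀ i, QuasiSeparatedSpace (D.obj i)]

instance : IsFiltered Iᵒᵖ := inferInstance

/-- A colimit of the inverse images computes sections. -/
theorem isLim_ofCocone (hc : IsLimit c) (t : Cocone (diag c S)) (ht : IsColimit t) :
    (Cocn.ofCocone t).IsLim := by
  have ha : ∀ (i : I) (V : (D.obj i).Etale) (s : (S.F i).obj.obj (op V)),
      ((Cocn.ofCocone t).a i).hom.app (op V) s =
        (t.ι.app (op i)).hom.app (op ((EtCoh.bc (prj c i)).obj V)) ((eta c S i).hom.app (op V) s) := by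
    intro i V s
    exact congrArg (fun m => m.hom.app (op V) s) ((EtCoh.pullPushAdj (prj c i)).homEquiv_unit _ _ (t.ι.app (op i)))
  haveI : ∀ i, IsAffineHom (prj c i) := fun i => isAffineHom_π hc i
  obtain ⟨_, _⟩ := qcqs_pt hc
  refine ⟨fun i V h1 h2 x => ?_, fun i V h1 h2 s hs => ?_⟩
  · obtain ⟨m, y, hy⟩ := Colim.exists_rep Colim.good ht (qcqs_bc (prj c i) V ⟨h1, h2⟩) x
    let k := IsCofiltered.min i m.unop
    let g₁ : k ⟶ i := IsCofiltered.minToLeft i m.unop
    let g₂ : k ⟶ m.unop := IsCofiltered.minToRight i m.unop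
    let V₀ := (EtCoh.bc (D.map g₁)).obj V
    obtain ⟨h1', h2'⟩ := qcqs_bc (D.map g₁) V ⟨h1, h2⟩
    haveI : CompactSpace V₀.left := h1'
    haveI : QuasiSeparatedSpace V₀.left := h2'
    let y' := ((diag c S).obj (op k)).obj.map (tr c g₁ V).op ((pullMap c S g₂).hom.app _ y)
    obtain ⟨j, g, z, hz⟩ := exists_res_eq c S hc V₀ y'
    refine ⟨j, g ≫ g₁, (S.F j).obj.map ((join (D.map g) (D.map g₁) (map_w D g g₁)).app V).op z, ?_⟩
    refine (ha j _ _).trans ?_
    refine (congrArg ((t.ι.app (op j)).hom.app _) ((NatTrans.naturality_apply (eta c S j).hom _ z).trans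
      (congrArg _ hz))).trans ?_
    refine (Colim.ι_nat (op j) _ _).trans ((congrArg _ (Colim.ι_nat (op j) _ _)).trans ?_)
    refine (congrArg (fun a => t.pt.obj.map _ (t.pt.obj.map _ a)) (Colim.ι_map (D := diag c S) g.op y')).trans ?_
    refine (congrArg (fun a => t.pt.obj.map _ (t.pt.obj.map _ a)) ((Colim.ι_nat (op k) _ _).trans
      (congrArg _ ((Colim.ι_map (D := diag c S) g₂.op y).trans hy)))).trans ?_
    refine (congrArg (t.pt.obj.map _) (Functor.map_comp_apply t.pt.obj _ _ x).symm).trans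
      ((Functor.map_comp_apply t.pt.obj _ _ x).symm.trans ?_)
    refine congrArg (fun l => t.pt.obj.map (Quiver.Hom.op l) x) ?_
    show (EtCoh.bc (prj c j)).map ((join (D.map g) (D.map g₁) (map_w D g g₁)).app V) ≫ tr c g V₀ ≫ tr c g₁ V = _
    refine bc_hom_ext (prj c i) ?_
    refine Eq.trans ?_ (split_fstB (prj c j) (D.map (g ≫ g₁)) (prj_w c (g ≫ g₁)) V).symm
    show (((EtCoh.bc (prj c j)).map _).left ≫ (tr c g V₀).left ≫ (tr c g₁ V).left) ≫ fstB (prj c i) V = _
    simp only [Category.assoc]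
    rw [split_fstB (prj c k) (D.map g₁) (prj_w c g₁) V]
    refine (congrArg (_ ≫ ·) ((Category.assoc _ _ _).symm.trans ((congrArg (· ≫ fstB (D.map g₁) V)
      (split_fstB (prj c j) (D.map g) (prj_w c g) V₀)).trans (Category.assoc _ _ _)))).trans ?_
    refine (Category.assoc _ _ _).symm.trans ((congrArg (· ≫ (fstB (D.map g) V₀ ≫ fstB (D.map g₁) V))
      (fstB_nat (prj c j) _)).trans ((Category.assoc _ _ _).trans (congrArg (_ ≫ ·) ?_)))
    exact (Category.assoc _ _ _).symm.trans ((congrArg (· ≫ fstB (D.map g₁) V)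
      (join_fstB (D.map g) (D.map g₁) (map_w D g g₁) V)).trans (midB_fstB _ _ _ _))
  · obtain ⟨k, h, hk⟩ := Colim.exists_map_eq_zero Colim.good ht (qcqs_bc (prj c i) V ⟨h1, h2⟩) (op i)
      ((eta c S i).hom.app (op V) s) ((ha i V s).symm.trans hs)
    let g : k.unop ⟶ i := h.unop
    let V₀ := (EtCoh.bc (D.map g)).obj V
    haveI : CompactSpace V₀.left := (qcqs_bc (D.map g) V ⟨h1, h2⟩).1
    have h0 : (eta c S k.unop).hom.app (op V₀) ((S.ψ g).hom.app (op V) s) = 0 := by
      refine ((congr($(((EtCoh.pull (prj c k.unop)).obj (S.F k.unop)).obj.map_id _) _)).symm.trans ?_)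
      refine (congrArg (fun l => ((EtCoh.pull (prj c k.unop)).obj (S.F k.unop)).obj.map (Quiver.Hom.op l)
        ((eta c S k.unop).hom.app (op V₀) ((S.ψ g).hom.app (op V) s)))
        (split_join (prj c k.unop) (D.map g) (prj_w c g) V).symm).trans ?_
      refine (Functor.map_comp_apply ((EtCoh.pull (prj c k.unop)).obj (S.F k.unop)).obj _ _ _).trans ?_
      exact (congrArg _ ((pullMap_eta c S g V s).symm.trans hk)).trans (map_zero _)
    obtain ⟨j, g', hj⟩ := exists_res_eq_zero c S hc V₀ ((S.ψ g).hom.app (op V) s) h0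
    refine ⟨j, g' ≫ g, ?_⟩
    rw [← S.res_comp g' g (T' := V₀) (midB (D.map g') (D.map g) (map_w D g' g) V) (fstB (D.map g) V) _
      (midB_w _ _ _ V) (fstB_w (D.map g) V) _ (midB_fstB _ _ _ V) s,
      show S.res g (fstB (D.map g) V) (fstB_w (D.map g) V) s = (S.ψ g).hom.app (op V) s from ?_,
      ← S.map_res g' (fstB (D.map g') V₀) (fstB_w (D.map g') V₀) ((join (D.map g') (D.map g) (map_w D g' g)).app V)
        _ (midB_w _ _ _ V) (join_fstB _ _ _ V), hj, map_zero]
    · rw [S.res_apply]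
      refine Eq.trans ?_ (congr($((S.F k.unop).obj.map_id _) ((S.ψ g).hom.app (op V) s)))
      exact congrArg (fun l => (S.F k.unop).obj.map (Quiver.Hom.op l) ((S.ψ g).hom.app (op V) s))
        (bc_hom_ext _ ((lift_fstB _ _ _).trans (Category.id_comp _).symm))

/-- The canonical receiving sheaf. -/
noncomputable def canon (c : Cone D) (S : Sys D) : Cocn S c := Cocn.ofCocone (colimit.cocone (diag c S))

theorem isLim_canon (hc : IsLimit c) : (canon c S).IsLim :=
  isLim_ofCocone hc _ (colimit.isColimit _)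

end Groth.L27.LimCoh
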