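import Groth.Agent.L27.LimCoh.Sys

/-! # The diagram of inverse images of a system on the limit -/

universe u

open CategoryTheory CategoryTheory.Limits AlgebraicGeometry Opposite

set_option backward.isDefEq.respectTransparency.types false
set_option linter.style.haveILetI false

namespace Groth.L27.LimCoh

variable {I : Type u} [SmallCategory I] {D : I ⥤ Scheme.{u}} (c : Cone D) (S : Sys D)

/-- The unit of the inverse image along a projection. -/
noncomputable abbrev eta (i : I) :
    S.F i ⟶ (EtCoh.push (prj c i)).obj ((EtCoh.pull (prj c i)).obj (S.F i)) :=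
  (EtCoh.pullPushAdj (prj c i)).unit.app (S.F i)

/-- The transposed transition. -/
noncomputable def pullMapHat {i j : I} (g : j ⟶ i) :
    S.F i ⟶ (EtCoh.push (prj c i)).obj ((EtCoh.pull (prj c j)).obj (S.F j)) :=
  S.ψ g ≫ (EtCoh.push (D.map g)).map (eta c S j) ≫ pushJoin (prj c j) (D.map g) (prj_w c g) _

/-- The transition between inverse images. -/
noncomputable def pullMap {i j : I} (g : j ⟶ i) :
    (EtCoh.pull (prj c i)).obj (S.F i) ⟶ (EtCoh.pull (prj c j)).obj (S.F j) :=
  ((EtCoh.pullPushAdj (prj c i)).homEquiv _ _).symm (pullMapHat c S g)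

theorem eta_pullMap {i j : I} (g : j ⟶ i) :
    eta c S i ≫ (EtCoh.push (prj c i)).map (pullMap c S g) = pullMapHat c S g := by
  rw [← Adjunction.homEquiv_unit, pullMap, Equiv.apply_symm_apply]

theorem pullMap_eta {i j : I} (g : j ⟶ i) (V : (D.obj i).Etale) (s : (S.F i).obj.obj (op V)) :
    (pullMap c S g).hom.app (op ((EtCoh.bc (prj c i)).obj V)) ((eta c S i).hom.app (op V) s) =
      ((EtCoh.pull (prj c j)).obj (S.F j)).obj.map ((join (prj c j) (D.map g) (prj_w c g)).app V).op
        ((eta c S j).hom.app (op ((EtCoh.bc (D.map g)).obj V)) ((S.ψ g).hom.app (op V) s)) :=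
  congrArg (fun m => m.hom.app (op V) s) (eta_pullMap c S g)

theorem hom_ext_eta {i : I} {M : EtCoh.Ab c.pt} {a b : (EtCoh.pull (prj c i)).obj (S.F i) ⟶ M}
    (h : ∀ (V : (D.obj i).Etale) (s : (S.F i).obj.obj (op V)),
      a.hom.app (op ((EtCoh.bc (prj c i)).obj V)) ((eta c S i).hom.app (op V) s) =
        b.hom.app (op ((EtCoh.bc (prj c i)).obj V)) ((eta c S i).hom.app (op V) s)) : a = b := by
  refine ((EtCoh.pullPushAdj (prj c i)).homEquiv _ _).injective ?_
  rw [Adjunction.homEquiv_unit, Adjunction.homEquiv_unit]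
  exact ObjectProperty.hom_ext _ (NatTrans.ext (funext fun V => ConcreteCategory.hom_ext _ _ fun s => h V.unop s))

theorem join_assoc {i j k : I} (h : k ⟶ j) (g : j ⟶ i) (V : (D.obj i).Etale) :
    (join (prj c j) (D.map g) (prj_w c g)).app V ≫
        (join (prj c k) (D.map h) (prj_w c h)).app ((EtCoh.bc (D.map g)).obj V) =
      (join (prj c k) (D.map (h ≫ g)) (prj_w c (h ≫ g))).app V ≫
        (EtCoh.bc (prj c k)).map ((join (D.map h) (D.map g) (map_w D h g)).app V) := by
  refine hom_ext_bc_bc (prj c k) (D.map h) (prj_w c h) ?_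
  refine ((Category.assoc _ _ _).trans ((congrArg (_ ≫ ·) (join_split (prj c k) (D.map h) (prj_w c h) _)).trans
    (Category.comp_id _))).trans ?_
  refine (eq_comp_join (prj c j) (D.map g) (prj_w c g) _ (𝟙 _) ?_).trans (Category.id_comp _) |>.symm
  refine Eq.trans ?_ (Category.id_comp _).symm
  -- both projections to `V` agree
  refine (Category.assoc _ _ _).trans ?_
  refine (congrArg (_ ≫ ·) ((Category.assoc _ _ _).symm.trans
    (congrArg (· ≫ fstB (D.map g) V) (split_fstB (prj c k) (D.map h) (prj_w c h) _)))).trans ?_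
  refine (congrArg (· ≫ _) (MorphismProperty.Comma.comp_left
    ((join (prj c k) (D.map (h ≫ g)) (prj_w c (h ≫ g))).app V)
    ((EtCoh.bc (prj c k)).map ((join (D.map h) (D.map g) (map_w D h g)).app V)))).trans ?_
  refine (Category.assoc _ _ _).trans ?_
  refine (congrArg (_ ≫ ·) ((congrArg (_ ≫ ·) (Category.assoc _ _ _)).trans ((Category.assoc _ _ _).symm.trans
    (congrArg (· ≫ _) (fstB_nat (prj c k) ((join (D.map h) (D.map g) (map_w D h g)).app V)))))).trans ?_
  refine (congrArg (_ ≫ ·) ((Category.assoc _ _ _).trans (congrArg (_ ≫ ·) ((Category.assoc _ _ _).symm.trans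
    ((congrArg (· ≫ fstB (D.map g) V) (join_fstB (D.map h) (D.map g) (map_w D h g) V)).trans
      (midB_fstB (D.map h) (D.map g) (map_w D h g) V)))))).trans ?_
  exact (Category.assoc _ _ _).symm.trans
    ((congrArg (· ≫ fstB (D.map (h ≫ g)) V) (join_fstB (prj c k) _ (prj_w c (h ≫ g)) V)).trans
      (midB_fstB (prj c k) _ (prj_w c (h ≫ g)) V))

theorem homEquiv_pullMap_comp {i j : I} (g : j ⟶ i) {M : EtCoh.Ab c.pt}
    (b : (EtCoh.pull (prj c j)).obj (S.F j) ⟶ M) :
    (EtCoh.pullPushAdj (prj c i)).homEquiv _ _ (pullMap c S g ≫ b) =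
      S.ψ g ≫ (EtCoh.push (D.map g)).map ((EtCoh.pullPushAdj (prj c j)).homEquiv _ _ b) ≫
        pushJoin (prj c j) (D.map g) (prj_w c g) M := by
  rw [Adjunction.homEquiv_naturality_right, pullMap, Equiv.apply_symm_apply, pullMapHat]
  simp only [Category.assoc]
  rw [← pushJoin_naturality, ← Category.assoc ((EtCoh.push (D.map g)).map (eta c S j)), ← Functor.map_comp,
    ← Adjunction.homEquiv_unit]

theorem pullMap_comp {i j k : I} (h : k ⟶ j) (g : j ⟶ i) :
    pullMap c S (h ≫ g) = pullMap c S g ≫ pullMap c S h := by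
  refine hom_ext_eta c S fun V s => ?_
  refine Eq.trans ?_ (congrArg ((pullMap c S h).hom.app (op ((EtCoh.bc (prj c i)).obj V)))
    (pullMap_eta c S g V s)).symm
  refine Eq.trans ?_ (NatTrans.naturality_apply (pullMap c S h).hom
    ((join (prj c j) (D.map g) (prj_w c g)).app V).op _).symm
  refine Eq.trans ?_ (congrArg (((EtCoh.pull (prj c k)).obj (S.F k)).obj.map
    ((join (prj c j) (D.map g) (prj_w c g)).app V).op) (pullMap_eta c S h _ _)).symm
  refine (pullMap_eta c S (h ≫ g) V s).trans ?_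
  rw [S.ψ_comp h g]
  refine (congrArg (((EtCoh.pull (prj c k)).obj (S.F k)).obj.map _)
    (NatTrans.naturality_apply (eta c S k).hom ((join (D.map h) (D.map g) (map_w D h g)).app V).op _)).trans ?_
  refine (Functor.map_comp_apply ((EtCoh.pull (prj c k)).obj (S.F k)).obj _ _ _).symm.trans ?_
  refine Eq.trans ?_ (Functor.map_comp_apply ((EtCoh.pull (prj c k)).obj (S.F k)).obj _ _ _)
  exact congrArg (fun l => ((EtCoh.pull (prj c k)).obj (S.F k)).obj.map (Quiver.Hom.op l)
    ((eta c S k).hom.app (op _) ((S.ψ h).hom.app (op ((EtCoh.bc (D.map g)).obj V))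
      ((S.ψ g).hom.app (op V) s)))) (join_assoc c h g V).symm

theorem pullMap_id (i : I) : pullMap c S (𝟙 i) = 𝟙 _ := by
  refine hom_ext_eta c S fun V s => ?_
  rw [pullMap_eta c S (𝟙 i) V s, S.ψ_id, pushUnit₀_app]
  refine (congrArg (((EtCoh.pull (prj c i)).obj (S.F i)).obj.map _)
    (NatTrans.naturality_apply (eta c S i).hom ((unit₀ (D.map (𝟙 i)) (D.map_id i)).app V).op _)).trans ?_
  refine (Functor.map_comp_apply ((EtCoh.pull (prj c i)).obj (S.F i)).obj _ _ _).symm.trans ?_
  refine Eq.trans ?_ (congr($(((EtCoh.pull (prj c i)).obj (S.F i)).obj.map_id _)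
    ((eta c S i).hom.app (op V) s)))
  refine congrArg (fun l => ((EtCoh.pull (prj c i)).obj (S.F i)).obj.map (Quiver.Hom.op l)
    ((eta c S i).hom.app (op V) s)) (bc_hom_ext (prj c i) ?_)
  refine (Category.assoc _ _ _).trans ((congrArg (_ ≫ ·) ((fstB_nat (prj c i) _).trans
    (congrArg (_ ≫ ·) (unit₀_left (D.map (𝟙 i)) (D.map_id i) V)))).trans ?_)
  refine (Category.assoc _ _ _).symm.trans ((congrArg (· ≫ fstB (D.map (𝟙 i)) V)
    (join_fstB (prj c i) _ (prj_w c (𝟙 i)) V)).trans ?_)
  exact (midB_fstB (prj c i) _ (prj_w c (𝟙 i)) V).trans (Category.id_comp _).symm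

/-- The diagram of inverse images. -/
noncomputable def diag : Iᵒᵖ ⥤ EtCoh.Ab c.pt where
  obj i := (EtCoh.pull (prj c i.unop)).obj (S.F i.unop)
  map g := pullMap c S g.unop
  map_id i := pullMap_id c S i.unop
  map_comp g h := pullMap_comp c S h.unop g.unop

variable {c S}

/-- A cocone on the diagram gives a receiving sheaf. -/
noncomputable def Cocn.ofCocone (t : Cocone (diag c S)) : Cocn S c where
  M := t.pt
  a i := ((EtCoh.pullPushAdj (prj c i)).homEquiv _ _) (t.ι.app (op i))
  comm {i j} g :=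
    (congrArg ((EtCoh.pullPushAdj (prj c i)).homEquiv _ _) (t.w g.op).symm).trans
      (homEquiv_pullMap_comp c S g (t.ι.app (op j)))

/-- A receiving sheaf gives a cocone. -/
noncomputable def Cocn.cocone (L : Cocn S c) : Cocone (diag c S) where
  pt := L.M
  ι :=
    { app := fun i => ((EtCoh.pullPushAdj (prj c i.unop)).homEquiv _ _).symm (L.a i.unop)
      naturality := fun i j g => by
        refine Eq.trans ?_ (Category.comp_id _).symm
        refine ((EtCoh.pullPushAdj (prj c i.unop)).homEquiv _ _).injective ?_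
        refine Eq.trans (homEquiv_pullMap_comp c S g.unop _) ?_
        refine Eq.trans ?_ (Equiv.apply_symm_apply _ (L.a i.unop)).symm
        refine Eq.trans ?_ (L.comm g.unop).symm
        exact congrArg (fun z => S.ψ g.unop ≫ (EtCoh.push (D.map g.unop)).map z ≫ _)
          (Equiv.apply_symm_apply _ _) }

theorem Cocn.cocone_ι_eta (L : Cocn S c) (i : I) :
    eta c S i ≫ (EtCoh.push (prj c i)).map (L.cocone.ι.app (op i)) = L.a i := by
  rw [← Adjunction.homEquiv_unit]
  exact Equiv.apply_symm_apply _ _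

/-- A morphism of systems gives a morphism of diagrams. -/
noncomputable def diagMap {S S' : Sys D} (φ : Sys.Hom S S') : diag c S ⟶ diag c S' where
  app i := (EtCoh.pull (prj c i.unop)).map (φ.app i.unop)
  naturality i j g := by
    refine ((EtCoh.pullPushAdj (prj c i.unop)).homEquiv _ _).injective ?_
    refine (homEquiv_pullMap_comp c S g.unop _).trans ?_
    refine Eq.trans ?_ (Adjunction.homEquiv_naturality_left _ (φ.app i.unop) (pullMap c S' g.unop)).symm
    refine Eq.trans ?_ (congrArg (φ.app i.unop ≫ ·) (Equiv.apply_symm_apply _ (pullMapHat c S' g.unop))).symm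
    rw [pullMapHat, reassoc_of% (φ.comm g.unop), ← Category.assoc ((EtCoh.push (D.map g.unop)).map (φ.app j.unop)),
      ← Functor.map_comp]
    refine congrArg (fun z => S.ψ g.unop ≫ (EtCoh.push (D.map g.unop)).map z ≫ _) ?_
    exact (Adjunction.homEquiv_unit _ _ _ _).trans
      ((EtCoh.pullPushAdj (prj c j.unop)).unit.naturality (φ.app j.unop)).symm

end Groth.L27.LimCoh
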