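import Groth.Agent.L27.LimCoh.Thm
import Groth.Agent.L27.LimCoh.PushSys
import Groth.Prelude.Def_EtGm
import Groth.Prelude.Def_EtLim
import Mathlib.AlgebraicGeometry.AffineTransitionLimit

/-! # The systems given by a sheaf on all schemes -/

universe u

open CategoryTheory CategoryTheory.Limits AlgebraicGeometry Opposite

set_option backward.isDefEq.respectTransparency.types false
set_option linter.style.haveILetI false
set_option linter.unusedSectionVars false
set_option linter.unusedVariables false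

namespace Groth.L27.LimCoh

section Generic

variable (P : Sheaf Scheme.etaleTopology.{u} AddCommGrpCat.{u + 1})

/-- The restriction of a big sheaf to a small etale site. -/
noncomputable abbrev bigRes (X : Scheme.{u}) : EtCoh.Ab X :=
  ((Scheme.Etale.forget X ⋙ Over.forget X).sheafPushforwardContinuous _ _ Scheme.etaleTopology).obj P

/-- The functoriality of the restrictions. -/
noncomputable def bigPush {X Y : Scheme.{u}} (f : X ⟶ Y) : bigRes P Y ⟶ (EtCoh.push f).obj (bigRes P X) :=
  ObjectProperty.homMk (Functor.whiskerRight (NatTrans.op (EtLim.bcProj f)) P.obj)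

theorem bigPush_app {X Y : Scheme.{u}} (f : X ⟶ Y) (V : Y.Etale) (s : P.obj.obj (op V.left)) :
    (bigPush P f).hom.app (op V) s = P.obj.map (fstB f V).op s := rfl

theorem bigPush_unit₀ {X : Scheme.{u}} (f : X ⟶ X) (hf : f = 𝟙 X) :
    bigPush P f = pushUnit₀ f hf (bigRes P X) :=
  sheafHom_ext fun V s => rfl

theorem bigPush_comp {X Y Z : Scheme.{u}} (f : Z ⟶ Y) (g : Y ⟶ X) {k : Z ⟶ X} (w : f ≫ g = k) :
    bigPush P k = bigPush P g ≫ (EtCoh.push g).map (bigPush P f) ≫ pushJoin f g w (bigRes P Z) := by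
  refine sheafHom_ext fun V s => ?_
  show P.obj.map (fstB k V).op s = P.obj.map ((join f g w).app V).left.op
    (P.obj.map (fstB f ((EtCoh.bc g).obj V)).op (P.obj.map (fstB g V).op s))
  refine Eq.trans ?_ (congrArg (P.obj.map ((join f g w).app V).left.op) (Functor.map_comp_apply P.obj _ _ s))
  refine Eq.trans ?_ (Functor.map_comp_apply P.obj _ _ s)
  exact congrArg (fun l => P.obj.map (Quiver.Hom.op l) s)
    (((congrArg (· ≫ fstB g V) (join_fstB f g w V)).trans (midB_fstB f g w V)).symm.trans (Category.assoc _ _ _))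

variable {I : Type u} [SmallCategory I] (D : I ⥤ Scheme.{u})

/-- The system. -/
noncomputable def bigSys : Sys D where
  F i := bigRes P (D.obj i)
  ψ g := bigPush P (D.map g)
  ψ_id i := bigPush_unit₀ P (D.map (𝟙 i)) (D.map_id i)
  ψ_comp h g := bigPush_comp P (D.map h) (D.map g) (map_w D h g)

variable {D} (c : Cone D)

/-- The receiving sheaf. -/
noncomputable def bigCocn : Cocn (bigSys P D) c where
  M := bigRes P c.pt
  a i := bigPush P (prj c i)
  comm {i j} g := bigPush_comp P (prj c j) (D.map g) (prj_w c g)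

/-- A presheaf on schemes takes limits of qcqs schemes with affine transition maps to colimits. -/
structure Continuous (P : Scheme.{u}ᵒᵖ ⥤ AddCommGrpCat.{u + 1}) : Prop where
  rep : ∀ (J : Type u) [SmallCategory J] [IsCofiltered J] (E : J ⥤ Scheme.{u}) (e : Cone E),
    IsLimit e → (∀ ⦃a b : J⦄ (f : a ⟶ b), IsAffineHom (E.map f)) → (∀ a, CompactSpace (E.obj a)) →
    (∀ a, QuasiSeparatedSpace (E.obj a)) → ∀ x : P.obj (op e.pt),
      ∃ (a : J) (y : P.obj (op (E.obj a))), P.map (e.π.app a).op y = x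
  zero : ∀ (J : Type u) [SmallCategory J] [IsCofiltered J] (E : J ⥤ Scheme.{u}) (e : Cone E),
    IsLimit e → (∀ ⦃a b : J⦄ (f : a ⟶ b), IsAffineHom (E.map f)) → (∀ a, CompactSpace (E.obj a)) →
    ∀ (a : J) (y : P.obj (op (E.obj a))), P.map (e.π.app a).op y = 0 →
      ∃ (b : J) (f : b ⟶ a), P.map (E.map f).op y = 0

variable [IsCofiltered I] [∀ (j k : I) (f : j ⟶ k), IsAffineHom (D.map f)]
  [∀ i, CompactSpace (D.obj i)] [∀ i, QuasiSeparatedSpace (D.obj i)]

theorem isLim_bigCocn (hc : IsLimit c) (hP : Continuous P.obj) : (bigCocn P c).IsLim where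
  rep i V h1 h2 x := by
    haveI := h1
    haveI := h2
    obtain ⟨k, y, hy⟩ := hP.rep (CategoryTheory.Over i) (ovDiag V ⋙ CategoryTheory.Over.forget _)
      ((CategoryTheory.Over.forget (D.obj i)).mapCone (ovCone c V)) (isLimitOvCone c V hc)
      (fun _ _ f => isAffineHom_ovDiag V f) (compactSpace_ovDiag V) (quasiSeparatedSpace_ovDiag V) x
    refine ⟨k.left, k.hom, P.obj.map (sy V k).left.op y, ?_⟩
    show P.obj.map (fstB (prj c k.left) _).op (P.obj.map (sy V k).left.op y) =
      P.obj.map (tr c k.hom V).left.op x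
    refine (Functor.map_comp_apply P.obj _ _ _).symm.trans ?_
    refine Eq.trans ?_ (congrArg (P.obj.map (tr c k.hom V).left.op) hy)
    refine Eq.trans ?_ (Functor.map_comp_apply P.obj _ _ _)
    exact congrArg (fun l => P.obj.map (Quiver.Hom.op l) y) (congrArg (fun z => z.left) (tr_cone c V k)).symm
  zero i V h1 h2 s hs := by
    haveI := h1
    let i₀ : CategoryTheory.Over i := CategoryTheory.Over.mk (𝟙 i)
    obtain ⟨k, f, hk⟩ := hP.zero (CategoryTheory.Over i) (ovDiag V ⋙ CategoryTheory.Over.forget _)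
      ((CategoryTheory.Over.forget (D.obj i)).mapCone (ovCone c V)) (isLimitOvCone c V hc)
      (fun _ _ f => isAffineHom_ovDiag V f) (compactSpace_ovDiag V) i₀ (P.obj.map (ovSnd V i₀).left.op s) (by
        refine (Functor.map_comp_apply P.obj _ _ _).symm.trans ?_
        refine Eq.trans ?_ hs
        exact congrArg (fun l => P.obj.map (Quiver.Hom.op l) s) (congrArg (fun z => z.left) (ovCone_snd c V i₀)))
    haveI : ∀ i, PreservesFiniteLimits (EtCoh.pull (prj c i)) := fun _ => EtSite.preservesFiniteLimits_pull _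
    haveI : ∀ {i j : I} (g : j ⟶ i), PreservesFiniteLimits (EtCoh.pull (D.map g)) :=
      fun _ => EtSite.preservesFiniteLimits_pull _
    refine ⟨k.left, k.hom, (res_fstB k.hom V s).trans ?_⟩
    show P.obj.map (fstB (D.map k.hom) V).op s = 0
    refine Eq.trans ?_ ((congrArg (P.obj.map (sy V k).left.op) hk).trans (map_zero _))
    refine Eq.trans ?_ (congrArg (P.obj.map (sy V k).left.op) (Functor.map_comp_apply P.obj _ _ _))
    refine Eq.trans ?_ (Functor.map_comp_apply P.obj _ _ _)
    refine congrArg (fun l => P.obj.map (Quiver.Hom.op l) s) ?_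
    exact ((congrArg (fun z => (sy V k).left ≫ z) (congrArg (fun z => z.left) (ovSnd_map V f))).trans
      (congrArg (fun z => z.left) (sy_snd V k))).symm

end Generic

section Gamma

variable {J : Type u} [SmallCategory J] [IsCofiltered J] {E : J ⥤ Scheme.{u}} {e : Cone E} (he : IsLimit e)

theorem Γmap_comp_apply {X Y Z : Scheme.{u}} (f : X ⟶ Y) (g : Y ⟶ Z) (s : Γ(Z, ⊤)) :
    (f ≫ g).appTop s = f.appTop (g.appTop s) := by
  rw [Scheme.Hom.comp_appTop]; rfl

theorem continuous_ΓAdd : Continuous EtCoh.ΓAdd.{u} where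
  rep J _ _ E e he haff hqc hqs x := by
    haveI : ∀ {a b : J} (f : a ⟶ b), IsAffineHom (E.map f) := fun f => haff f
    haveI := hqc
    haveI := hqs
    obtain ⟨a, t, ht⟩ := exists_appTop_π_eq_of_isLimit E e he (x.down)
    exact ⟨a, ULift.up t, congrArg ULift.up ht.symm⟩
  zero J _ _ E e he haff hqc a y hy := by
    haveI : ∀ {a b : J} (f : a ⟶ b), IsAffineHom (E.map f) := fun f => haff f
    haveI := hqc
    obtain ⟨b, f, hf⟩ := exists_appTop_map_eq_zero_of_isLimit E e he y.down (congrArg ULift.down hy)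
    exact ⟨b, f, congrArg ULift.up hf⟩

theorem continuous_ΓUnits : Continuous EtCoh.ΓUnits.{u} where
  rep J _ _ E e he haff hqc hqs x := by
    haveI : ∀ {a b : J} (f : a ⟶ b), IsAffineHom (E.map f) := fun f => haff f
    haveI := hqc
    haveI := hqs
    let v : (Γ(e.pt, ⊤))ˣ := Additive.toMul x.down
    obtain ⟨a, t, ht⟩ := exists_appTop_π_eq_of_isLimit E e he (v : Γ(e.pt, ⊤))
    obtain ⟨b, t', ht'⟩ := exists_appTop_π_eq_of_isLimit E e he ((v⁻¹ : (Γ(e.pt, ⊤))ˣ) : Γ(e.pt, ⊤))
    let m := IsCofiltered.min a b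
    let s := (E.map (IsCofiltered.minToLeft a b)).appTop t
    let s' := (E.map (IsCofiltered.minToRight a b)).appTop t'
    obtain ⟨r, g, hg⟩ := exists_appTop_map_eq_zero_of_isLimit E e he (i := m) (s * s' - 1) (by
      rw [map_sub, map_mul, map_one, ← Γmap_comp_apply, ← Γmap_comp_apply, e.w, e.w, sub_eq_zero]
      exact (congrArg₂ (· * ·) ht.symm ht'.symm).trans v.mul_inv)
    rw [map_sub, map_mul, map_one, sub_eq_zero] at hg
    refine ⟨r, ULift.up (Additive.ofMul (Units.mkOfMulEqOne _ _ hg)), ?_⟩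
    refine congrArg ULift.up (congrArg Additive.ofMul (Units.ext ?_))
    show (e.π.app r).appTop ((E.map g).appTop s) = (v : Γ(e.pt, ⊤))
    rw [← Γmap_comp_apply, e.w, ← Γmap_comp_apply, e.w]
    exact ht.symm
  zero J _ _ E e he haff hqc a y hy := by
    haveI : ∀ {a b : J} (f : a ⟶ b), IsAffineHom (E.map f) := fun f => haff f
    haveI := hqc
    let v : (Γ(E.obj a, ⊤))ˣ := Additive.toMul y.down
    have hv : (e.π.app a).appTop (v : Γ(E.obj a, ⊤)) = 1 :=
      congrArg (fun z => ((Additive.toMul z : (Γ(e.pt, ⊤))ˣ) : Γ(e.pt, ⊤))) (congrArg ULift.down hy)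
    obtain ⟨b, f, hf⟩ := exists_appTop_map_eq_zero_of_isLimit E e he ((v : Γ(E.obj a, ⊤)) - 1) (by
      rw [map_sub, map_one, hv, sub_self])
    rw [map_sub, map_one, sub_eq_zero] at hf
    exact ⟨b, f, congrArg ULift.up (congrArg Additive.ofMul (Units.ext hf))⟩

end Gamma

end Groth.L27.LimCoh
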