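import Groth.Agent.L27.LimCoh.RetractColim
import Groth.Prelude.Def_EtLim

/-! # Systems indexed by a directed preorder -/

universe u

open CategoryTheory CategoryTheory.Limits AlgebraicGeometry Opposite

set_option backward.isDefEq.respectTransparency.types false
set_option linter.style.haveILetI false
set_option linter.unusedSectionVars false
set_option linter.unusedVariables false

namespace Groth.L27.LimCoh

section Generic

variable {X Y Z : Scheme.{u}} (f : Z ⟶ Y) (g : Y ⟶ X) {k : Z ⟶ X}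

/-- Transposing a cocycle identity. -/
theorem homEquiv_cocycle (h : k = f ≫ g) (F : EtCoh.Ab X) {G : EtCoh.Ab Y} {M : EtCoh.Ab Z}
    (a : (EtCoh.pull g).obj F ⟶ G) (b : (EtCoh.pull f).obj G ⟶ M) (w : f ≫ g = k) :
    (EtCoh.pullPushAdj k).homEquiv F M
        ((EtCore.pullCongr h ≪≫ EtCore.pullComp f g).hom.app F ≫ (EtCoh.pull f).map a ≫ b) =
      (EtCoh.pullPushAdj g).homEquiv F G a ≫
        (EtCoh.push g).map ((EtCoh.pullPushAdj f).homEquiv G M b) ≫ pushJoin f g w M := by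
  rw [← homEquiv_gamma_comp f g w F, Equiv.symm_apply_apply, Equiv.symm_apply_apply, pullTrans_eq_gamma]

theorem cocycle_gamma (h : k = f ≫ g) (F : EtCoh.Ab X) {G : EtCoh.Ab Y} {M : EtCoh.Ab Z}
    {a a' : (EtCoh.pull g).obj F ⟶ G} (ha : a = a') (b : (EtCoh.pull f).obj G ⟶ M) (w : f ≫ g = k) :
    (EtCore.pullCongr h ≪≫ EtCore.pullComp f g).hom.app F ≫ (EtCoh.pull f).map a ≫ b =
      (gamma f g w F ≫ (EtCoh.pull f).map a') ≫ b := by
  subst ha
  rw [pullTrans_eq_gamma, Category.assoc]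

end Generic

variable {ι : Type u} [Preorder ι] (Xs : ιᵒᵖ ⥤ Scheme.{u})
  (F : ∀ i : ι, EtCoh.Ab (Xs.obj (op i)))
  (φ : ∀ ⦃i j : ι⦄ (h : i ≤ j), (EtCoh.pull (Xs.map (homOfLE h).op)).obj (F i) ⟶ F j)
  (hφ : ∀ ⦃i j k : ι⦄ (hij : i ≤ j) (hjk : j ≤ k),
    φ (hij.trans hjk) = (EtLim.pullTrans Xs hij hjk).hom.app (F i) ≫
      (EtCoh.pull (Xs.map (homOfLE hjk).op)).map (φ hij) ≫ φ hjk)

/-- The transposed transition map of a system over a preorder. -/
noncomputable def transp {a b : ιᵒᵖ} (g : b ⟶ a) : F a.unop ⟶ (EtCoh.push (Xs.map g)).obj (F b.unop) :=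
  (EtCoh.pullPushAdj (Xs.map g)).homEquiv _ _ (φ (leOfHom g.unop))

include hφ in
theorem transp_comp {a b d : ιᵒᵖ} (h : d ⟶ b) (g : b ⟶ a) :
    transp Xs F φ (h ≫ g) = transp Xs F φ g ≫ (EtCoh.push (Xs.map g)).map (transp Xs F φ h) ≫
      pushJoin (Xs.map h) (Xs.map g) (map_w Xs h g) (F d.unop) :=
  (congrArg ((EtCoh.pullPushAdj (Xs.map (h ≫ g))).homEquiv (F a.unop) (F d.unop))
    (hφ (leOfHom g.unop) (leOfHom h.unop))).trans
    (homEquiv_cocycle (Xs.map h) (Xs.map g) (Xs.map_comp h g) (F a.unop) (φ (leOfHom g.unop)) (φ (leOfHom h.unop))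
      (map_w Xs h g))

/-- A system over a preorder. -/
noncomputable def preorderSys : PreSys Xs where
  F a := F a.unop
  ψ g := transp Xs F φ g
  ψ_comp h g := transp_comp Xs F φ hφ h g

theorem preorderSys_φ {a b : ιᵒᵖ} (g : b ⟶ a) : (preorderSys Xs F φ hφ).φ g = φ (leOfHom g.unop) :=
  Equiv.symm_apply_apply ((EtCoh.pullPushAdj (Xs.map g)).homEquiv (F a.unop) (F b.unop)) (φ (leOfHom g.unop))

theorem preorderSys_trans (c : Cone Xs) {a b : ιᵒᵖ} (g : b ⟶ a) {M : EtCoh.Ab c.pt}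
    (m : (EtCoh.pull (prj c b)).obj (F b.unop) ⟶ M) :
    (EtLim.pullTransCone Xs c (leOfHom g.unop)).hom.app (F a.unop) ≫
        (EtCoh.pull (c.π.app (op b.unop))).map (φ (leOfHom g.unop)) ≫ m =
      (preorderSys Xs F φ hφ).trans c g ≫ m :=
  cocycle_gamma (prj c b) (Xs.map g) (prj_w c g).symm (F a.unop) (preorderSys_φ Xs F φ hφ g).symm m (prj_w c g)

end Groth.L27.LimCoh
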