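import Groth.Agent.L27.LimCoh.Retract
import Groth.Agent.L27.LimCoh.CanonLim
import Groth.Agent.L27.LimCoh.Thm

/-! # Cohomology commutes with the colimit of a system given by transposed transition maps -/

universe u

open CategoryTheory CategoryTheory.Limits AlgebraicGeometry Opposite

set_option backward.isDefEq.respectTransparency.types false
set_option linter.style.haveILetI false
set_option linter.unusedSectionVars false
set_option linter.unusedVariables false

namespace Groth.L27.LimCoh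

variable {I : Type u} [SmallCategory I] {D : I ⥤ Scheme.{u}} (P : PreSys D) (c : Cone D)

/-- The transposed transition. -/
noncomputable abbrev PreSys.φ {i j : I} (g : j ⟶ i) : (EtCoh.pull (D.map g)).obj (P.F i) ⟶ P.F j :=
  ((EtCoh.pullPushAdj (D.map g)).homEquiv _ _).symm (P.ψ g)

/-- The transition between inverse images on the cone point. -/
noncomputable abbrev PreSys.trans {i j : I} (g : j ⟶ i) :
    (EtCoh.pull (prj c i)).obj (P.F i) ⟶ (EtCoh.pull (prj c j)).obj (P.F j) :=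
  gamma (prj c j) (D.map g) (prj_w c g) (P.F i) ≫ (EtCoh.pull (prj c j)).map (P.φ g)

theorem PreSys.homEquiv_trans {i j : I} (g : j ⟶ i) :
    (EtCoh.pullPushAdj (prj c i)).homEquiv _ _ (P.trans c g) =
      P.ψ g ≫ (EtCoh.push (D.map g)).map ((EtCoh.pullPushAdj (prj c j)).unit.app (P.F j)) ≫
        pushJoin (prj c j) (D.map g) (prj_w c g) _ := by
  have h := homEquiv_gamma_comp (prj c j) (D.map g) (prj_w c g) (P.F i) (P.ψ g)
    ((EtCoh.pullPushAdj (prj c j)).unit.app (P.F j))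
  refine Eq.trans ?_ h
  refine congrArg _ (congrArg (gamma (prj c j) (D.map g) (prj_w c g) (P.F i) ≫ ·) ?_)
  refine (Category.comp_id _).symm.trans (congrArg (_ ≫ ·) ?_)
  refine ((EtCoh.pullPushAdj (prj c j)).homEquiv _ _).injective ?_
  rw [Equiv.apply_symm_apply, Adjunction.homEquiv_id]

theorem PreSys.pull_e {i : I} (h : P.trans c (𝟙 i) = 𝟙 _) : (EtCoh.pull (prj c i)).map (P.e i) = 𝟙 _ := by
  refine Eq.trans ?_ h
  refine ((EtCoh.pullPushAdj (prj c i)).homEquiv _ _).injective ?_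
  refine Eq.trans ?_ (P.homEquiv_trans c (𝟙 i)).symm
  refine ((EtCoh.pullPushAdj (prj c i)).homEquiv_unit _ _ _).trans ?_
  refine ((EtCoh.pullPushAdj (prj c i)).unit.naturality (P.e i)).symm.trans ?_
  rw [← P.e_unit i, Category.assoc, pushUnit₀_comp_pushJoin (prj c i) (D.map (𝟙 i)) (D.map_id i) rfl,
    eqToHom_refl, Category.comp_id]
  rfl

theorem PreSys.pullMap_s {i j : I} (g : j ⟶ i) :
    pullMap c P.sys g ≫ (EtCoh.pull (prj c j)).map (P.s j) = (EtCoh.pull (prj c i)).map (P.s i) ≫ P.trans c g := by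
  refine ((EtCoh.pullPushAdj (prj c i)).homEquiv _ _).injective ?_
  refine (homEquiv_pullMap_comp c P.sys g _).trans ?_
  refine Eq.trans ?_ ((EtCoh.pullPushAdj (prj c i)).homEquiv_naturality_left _ _).symm
  refine Eq.trans ?_ (congrArg (P.s i ≫ ·) (P.homEquiv_trans c g)).symm
  refine (congrArg (fun z => P.sys.ψ g ≫ (EtCoh.push (D.map g)).map z ≫ pushJoin (prj c j) (D.map g) (prj_w c g) _)
    (((EtCoh.pullPushAdj (prj c j)).homEquiv_unit _ _ _).trans
      ((EtCoh.pullPushAdj (prj c j)).unit.naturality (P.s j)).symm)).trans ?_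
  show (P.s i ≫ P.ψ g ≫ (EtCoh.push (D.map g)).map (P.p j)) ≫
    (EtCoh.push (D.map g)).map (P.s j ≫ (EtCoh.pullPushAdj (prj c j)).unit.app (P.F j)) ≫ _ = _
  rw [Functor.map_comp, Category.assoc, Category.assoc, Category.assoc]
  refine congrArg (P.s i ≫ ·) ?_
  rw [← Category.assoc ((EtCoh.push (D.map g)).map (P.p j)), ← Functor.map_comp, P.p_s,
    ← Category.assoc (P.ψ g), P.ψ_e g]

variable (G : Iᵒᵖ ⥤ EtCoh.Ab c.pt) (θ : ∀ i, (EtCoh.pull (prj c i)).obj (P.F i) ≅ G.obj (op i))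
  (hθ : ∀ {i j : I} (g : j ⟶ i), (θ i).hom ≫ G.map g.op = P.trans c g ≫ (θ j).hom)

include hθ in
theorem PreSys.trans_id (i : I) : P.trans c (𝟙 i) = 𝟙 _ := by
  refine (cancel_mono (θ i).hom).1 ?_
  refine (hθ (𝟙 i)).symm.trans ?_
  rw [op_id, G.map_id, Category.comp_id, Category.id_comp]

/-- The retract at a stage becomes the whole sheaf on the cone point. -/
noncomputable def PreSys.sIso (i : I) (h : P.trans c (𝟙 i) = 𝟙 _) :
    (EtCoh.pull (prj c i)).obj (P.Y i) ≅ (EtCoh.pull (prj c i)).obj (P.F i) where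
  hom := (EtCoh.pull (prj c i)).map (P.s i)
  inv := (EtCoh.pull (prj c i)).map (P.p i)
  hom_inv_id := ((EtCoh.pull (prj c i)).map_comp _ _).symm.trans
    ((congrArg _ (P.s_p i)).trans ((EtCoh.pull (prj c i)).map_id _))
  inv_hom_id := ((EtCoh.pull (prj c i)).map_comp _ _).symm.trans
    ((congrArg _ (P.p_s i)).trans (P.pull_e c h))

/-- The diagram of retracts is the given diagram. -/
noncomputable def PreSys.diagIso : diag c P.sys ≅ G :=
  NatIso.ofComponents (fun i => P.sIso c i.unop (P.trans_id c G θ hθ i.unop) ≪≫ θ i.unop) fun {i j} g => by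
    show pullMap c P.sys g.unop ≫ (EtCoh.pull (prj c j.unop)).map (P.s j.unop) ≫ (θ j.unop).hom =
      ((EtCoh.pull (prj c i.unop)).map (P.s i.unop) ≫ (θ i.unop).hom) ≫ G.map g.unop.op
    rw [Category.assoc, hθ g.unop]
    exact (Category.assoc _ _ _).symm.trans ((congrArg (· ≫ _) (P.pullMap_s c g.unop)).trans (Category.assoc _ _ _))

variable [∀ i, PreservesFiniteLimits (EtCoh.pull (prj c i))]
  [∀ {i j : I} (g : j ⟶ i), PreservesFiniteLimits (EtCoh.pull (D.map g))]
  [IsCofiltered I] [∀ (j k : I) (f : j ⟶ k), IsAffineHom (D.map f)]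
  [∀ i, CompactSpace (D.obj i)] [∀ i, QuasiSeparatedSpace (D.obj i)]

include hθ in
/-- Cohomology of the colimit is the colimit of cohomology. -/
theorem PreSys.commutes (hc : IsLimit c) (t : Cocone G) (ht : IsColimit t) (n : ℕ) :
    (∀ ξ : EtCoh.H c.pt t.pt n, ∃ (j : I) (e : EtCoh.H (D.obj j) (P.F j) n),
      EtLim.HpullThen (prj c j) (P.F j) ((θ j).hom ≫ t.ι.app (op j)) n e = ξ) ∧
    ∀ (j : I) (e : EtCoh.H (D.obj j) (P.F j) n),
      EtLim.HpullThen (prj c j) (P.F j) ((θ j).hom ≫ t.ι.app (op j)) n e = 0 →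
        ∃ (k : I) (g : k ⟶ j), EtLim.HpullThen (D.map g) (P.F j) (P.φ g) n e = 0 := by
  let t' : Cocone (diag c P.sys) := (Cocone.precompose (P.diagIso c G θ hθ).hom).obj t
  have ht' : IsColimit t' := (IsColimit.precomposeHomEquiv (P.diagIso c G θ hθ) t).symm ht
  obtain ⟨h1, h2⟩ := commutes_isLim hc (Cocn.ofCocone t') (isLim_ofCocone hc t' ht') n
  have key : ∀ (j : I) (e : EtCoh.H (D.obj j) (P.Y j) n),
      ΦL (Cocn.ofCocone t') j n e = EtLim.HpullThen (prj c j) (P.F j) ((θ j).hom ≫ t.ι.app (op j)) n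
        ((EtCoh.HF (D.obj j) n).map (P.s j) e) := fun j e => by
    rw [HpullThen_map]
    refine congrArg (fun a => EtLim.HpullThen (prj c j) (P.Y j) a n e) ?_
    refine (Equiv.symm_apply_apply _ _).trans ?_
    exact Category.assoc _ _ _
  refine ⟨fun ξ => ?_, fun j e he => ?_⟩
  · obtain ⟨j, e, he⟩ := h1 ξ
    exact ⟨j, _, (key j e).symm.trans he⟩
  · have h0 : ΦL (Cocn.ofCocone t') j n ((EtCoh.HF (D.obj j) n).map (P.p j) e) = 0 := by
      rw [key, ← HF_map_comp, HpullThen_map, P.p_s, P.pull_e c (P.trans_id c G θ hθ j), Category.id_comp]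
      exact he
    obtain ⟨k, g, hk⟩ := h2 j _ h0
    refine ⟨k, g, ?_⟩
    have hφ : (EtCoh.pull (D.map g)).map (P.p j) ≫ ((EtCoh.pullPushAdj (D.map g)).homEquiv _ _).symm (P.sys.ψ g) ≫
        P.s k = P.φ g := by
      refine ((EtCoh.pullPushAdj (D.map g)).homEquiv _ _).injective ?_
      rw [Adjunction.homEquiv_naturality_left, Adjunction.homEquiv_naturality_right, Equiv.apply_symm_apply,
        Equiv.apply_symm_apply]
      show P.p j ≫ (P.s j ≫ P.ψ g ≫ (EtCoh.push (D.map g)).map (P.p k)) ≫ (EtCoh.push (D.map g)).map (P.s k) = _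
      rw [Category.assoc, Category.assoc, ← Functor.map_comp, P.p_s, P.ψ_e, ← Category.assoc, P.p_s, P.e_ψ]
    rw [← hφ, ← Category.assoc, HpullThen_comp_map, ← HpullThen_map]
    exact (congrArg ((EtCoh.HF (D.obj k) n).map (P.s k)) hk).trans (map_zero _)

end Groth.L27.LimCoh
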