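import Groth.Agent.L27.LimCoh.BC

/-! # Compatible systems of sheaves on a diagram of schemes -/

universe u

open CategoryTheory CategoryTheory.Limits AlgebraicGeometry Opposite

set_option backward.isDefEq.respectTransparency.types false
set_option linter.style.haveILetI false

namespace Groth.L27.LimCoh

variable {I : Type u} [SmallCategory I] (D : I ⥤ Scheme.{u})

theorem map_w {i j k : I} (h : k ⟶ j) (g : j ⟶ i) : D.map h ≫ D.map g = D.map (h ≫ g) :=
  (D.map_comp h g).symm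

/-- A compatible system of abelian sheaves on a diagram of schemes. -/
structure Sys where
  /-- The sheaves. -/
  F : ∀ i, EtCoh.Ab (D.obj i)
  /-- The transition morphisms. -/
  ψ : ∀ {i j : I} (g : j ⟶ i), F i ⟶ (EtCoh.push (D.map g)).obj (F j)
  ψ_id : ∀ i, ψ (𝟙 i) = pushUnit₀ (D.map (𝟙 i)) (D.map_id i) (F i)
  ψ_comp : ∀ {i j k : I} (h : k ⟶ j) (g : j ⟶ i),
    ψ (h ≫ g) = ψ g ≫ (EtCoh.push (D.map g)).map (ψ h) ≫ pushJoin (D.map h) (D.map g) (map_w D h g) (F k)

variable {D} (S : Sys D)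

/-- Restriction of sections along a morphism of schemes lying over a transition map. -/
noncomputable def Sys.res {i j : I} (g : j ⟶ i) {T : (D.obj j).Etale} {V : (D.obj i).Etale} (r : T.left ⟶ V.left)
    (h : r ≫ V.hom = T.hom ≫ D.map g) : (S.F i).obj.obj (op V) →+ (S.F j).obj.obj (op T) :=
  AddMonoidHom.mk' (fun s => (S.F j).obj.map (lift (D.map g) r h).op ((S.ψ g).hom.app (op V) s))
    fun s t => (congrArg ((S.F j).obj.map (lift (D.map g) r h).op) (map_add ((S.ψ g).hom.app (op V)).hom s t)).trans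
      (map_add ((S.F j).obj.map (lift (D.map g) r h).op).hom _ _)

theorem Sys.res_apply {i j : I} (g : j ⟶ i) {T : (D.obj j).Etale} {V : (D.obj i).Etale} (r : T.left ⟶ V.left)
    (h : r ≫ V.hom = T.hom ≫ D.map g) (s : (S.F i).obj.obj (op V)) :
    S.res g r h s = (S.F j).obj.map (lift (D.map g) r h).op ((S.ψ g).hom.app (op V) s) := rfl

theorem Sys.map_res {i j : I} (g : j ⟶ i) {T T' : (D.obj j).Etale} {V : (D.obj i).Etale} (r : T.left ⟶ V.left)
    (h : r ≫ V.hom = T.hom ≫ D.map g) (m : T' ⟶ T) (r' : T'.left ⟶ V.left)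
    (h' : r' ≫ V.hom = T'.hom ≫ D.map g) (e : m.left ≫ r = r') (s : (S.F i).obj.obj (op V)) :
    (S.F j).obj.map m.op (S.res g r h s) = S.res g r' h' s := by
  refine (Functor.map_comp_apply (S.F j).obj _ _ _).symm.trans ?_
  refine congrArg (fun l => (S.F j).obj.map (Quiver.Hom.op l) ((S.ψ g).hom.app (op V) s))
    (bc_hom_ext (D.map g) ?_)
  exact ((Category.assoc _ _ _).trans ((congrArg (_ ≫ ·) (lift_fstB (D.map g) r h)).trans e)).trans
    (lift_fstB (D.map g) r' h').symm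

theorem Sys.res_map {i j : I} (g : j ⟶ i) {T : (D.obj j).Etale} {V V' : (D.obj i).Etale} (r : T.left ⟶ V.left)
    (h : r ≫ V.hom = T.hom ≫ D.map g) (m : V ⟶ V') (r' : T.left ⟶ V'.left)
    (h' : r' ≫ V'.hom = T.hom ≫ D.map g) (e : r ≫ m.left = r') (s : (S.F i).obj.obj (op V')) :
    S.res g r h ((S.F i).obj.map m.op s) = S.res g r' h' s := by
  refine (congrArg ((S.F j).obj.map (lift (D.map g) r h).op) (NatTrans.naturality_apply (S.ψ g).hom m.op s)).trans ?_
  refine (Functor.map_comp_apply (S.F j).obj _ _ _).symm.trans ?_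
  refine congrArg (fun l => (S.F j).obj.map (Quiver.Hom.op l) ((S.ψ g).hom.app (op V') s))
    (bc_hom_ext (D.map g) ?_)
  refine Eq.trans ?_ (lift_fstB (D.map g) r' h').symm
  exact (Category.assoc _ _ _).trans ((congrArg (_ ≫ ·) (fstB_nat (D.map g) m)).trans
    ((Category.assoc _ _ _).symm.trans ((congrArg (· ≫ m.left) (lift_fstB (D.map g) r h)).trans e)))

theorem Sys.res_congr {i j : I} {g g' : j ⟶ i} (eg : g = g') {T : (D.obj j).Etale} {V : (D.obj i).Etale}
    {r r' : T.left ⟶ V.left} (er : r = r') (h : r ≫ V.hom = T.hom ≫ D.map g)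
    (h' : r' ≫ V.hom = T.hom ≫ D.map g') (s : (S.F i).obj.obj (op V)) : S.res g r h s = S.res g' r' h' s := by
  subst eg er; rfl

theorem Sys.res_id {i : I} {T V : (D.obj i).Etale} (m : T ⟶ V) (h : m.left ≫ V.hom = T.hom ≫ D.map (𝟙 i))
    (s : (S.F i).obj.obj (op V)) : S.res (𝟙 i) m.left h s = (S.F i).obj.map m.op s := by
  rw [Sys.res_apply, S.ψ_id, pushUnit₀_app]
  refine (Functor.map_comp_apply (S.F i).obj _ _ _).symm.trans ?_
  exact congrArg (fun l => (S.F i).obj.map (Quiver.Hom.op l) s)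
    (MorphismProperty.Over.Hom.ext (lift_fstB (D.map (𝟙 i)) m.left h))

theorem Sys.res_comp {i j k : I} (h : k ⟶ j) (g : j ⟶ i) {T : (D.obj k).Etale} {T' : (D.obj j).Etale}
    {V : (D.obj i).Etale} (r₁ : T.left ⟶ T'.left) (r₂ : T'.left ⟶ V.left) (r : T.left ⟶ V.left)
    (h₁ : r₁ ≫ T'.hom = T.hom ≫ D.map h) (h₂ : r₂ ≫ V.hom = T'.hom ≫ D.map g)
    (h₃ : r ≫ V.hom = T.hom ≫ D.map (h ≫ g)) (e : r₁ ≫ r₂ = r) (s : (S.F i).obj.obj (op V)) :
    S.res h r₁ h₁ (S.res g r₂ h₂ s) = S.res (h ≫ g) r h₃ s := by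
  rw [S.res_apply (h ≫ g), S.ψ_comp]
  refine Eq.trans ?_ (Functor.map_comp_apply (S.F k).obj ((join (D.map h) (D.map g) (map_w D h g)).app V).op
    (lift (D.map (h ≫ g)) r h₃).op ((S.ψ h).hom.app (op ((EtCoh.bc (D.map g)).obj V)) ((S.ψ g).hom.app (op V) s)))
  refine (congrArg ((S.F k).obj.map (lift (D.map h) r₁ h₁).op)
    (NatTrans.naturality_apply (S.ψ h).hom (lift (D.map g) r₂ h₂).op _)).trans ?_
  refine (Functor.map_comp_apply (S.F k).obj _ _ _).symm.trans ?_
  refine congrArg (fun l => (S.F k).obj.map (Quiver.Hom.op l)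
    ((S.ψ h).hom.app (op ((EtCoh.bc (D.map g)).obj V)) ((S.ψ g).hom.app (op V) s))) ?_
  refine eq_comp_join (D.map h) (D.map g) (map_w D h g) _ (lift (D.map (h ≫ g)) r h₃) ?_
  refine Eq.trans ?_ (lift_fstB _ r h₃).symm
  refine ((congrArg (· ≫ (fstB (D.map h) ((EtCoh.bc (D.map g)).obj V) ≫ fstB (D.map g) V))
    (MorphismProperty.Comma.comp_left (lift (D.map h) r₁ h₁) _)).trans (Category.assoc _ _ _)).trans ?_
  refine (congrArg (_ ≫ ·) ((Category.assoc _ _ _).symm.trans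
    (congrArg (· ≫ fstB (D.map g) V) (fstB_nat (D.map h) (lift (D.map g) r₂ h₂))))).trans ?_
  refine (congrArg (_ ≫ ·) ((Category.assoc _ _ _).trans (congrArg (_ ≫ ·) (lift_fstB _ r₂ h₂)))).trans ?_
  exact (Category.assoc _ _ _).symm.trans ((congrArg (· ≫ r₂) (lift_fstB _ r₁ h₁)).trans e)

/-- Morphisms of systems. -/
structure Sys.Hom (S S' : Sys D) where
  /-- The components. -/
  app : ∀ i, S.F i ⟶ S'.F i
  comm : ∀ {i j : I} (g : j ⟶ i), app i ≫ S'.ψ g = S.ψ g ≫ (EtCoh.push (D.map g)).map (app j)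

theorem Sys.Hom.app_res {S S' : Sys D} (φ : Sys.Hom S S') {i j : I} (g : j ⟶ i) {T : (D.obj j).Etale}
    {V : (D.obj i).Etale} (r : T.left ⟶ V.left) (h : r ≫ V.hom = T.hom ≫ D.map g) (s : (S.F i).obj.obj (op V)) :
    (φ.app j).hom.app (op T) (S.res g r h s) = S'.res g r h ((φ.app i).hom.app (op V) s) := by
  refine (NatTrans.naturality_apply (φ.app j).hom (lift (D.map g) r h).op _).trans ?_
  exact congrArg ((S'.F j).obj.map (lift (D.map g) r h).op)
    (congrArg (fun m => m.hom.app (op V) s) (φ.comm g)).symm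

variable (c : Cone D)

/-- The projections of a cone. -/
abbrev prj (i : I) : c.pt ⟶ D.obj i := c.π.app i

theorem prj_w {i j : I} (g : j ⟶ i) : prj c j ≫ D.map g = prj c i := c.w g

/-- A sheaf on the cone point receiving the system. -/
structure Cocn where
  /-- The sheaf. -/
  M : EtCoh.Ab c.pt
  /-- The maps. -/
  a : ∀ i, S.F i ⟶ (EtCoh.push (prj c i)).obj M
  comm : ∀ {i j : I} (g : j ⟶ i), a i =
    S.ψ g ≫ (EtCoh.push (D.map g)).map (a j) ≫ pushJoin (prj c j) (D.map g) (prj_w c g) M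

variable {S c}

/-- The canonical map between base changes to the cone point. -/
noncomputable abbrev tr (c : Cone D) {i j : I} (g : j ⟶ i) (V : (D.obj i).Etale) :
    (EtCoh.bc (prj c j)).obj ((EtCoh.bc (D.map g)).obj V) ⟶ (EtCoh.bc (prj c i)).obj V :=
  (split (prj c j) (D.map g) (prj_w c g)).app V

theorem tr_nat {i j : I} (g : j ⟶ i) {V V' : (D.obj i).Etale} (m : V ⟶ V') :
    (EtCoh.bc (prj c j)).map ((EtCoh.bc (D.map g)).map m) ≫ tr c g V' =
      tr c g V ≫ (EtCoh.bc (prj c i)).map m :=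
  (split (prj c j) (D.map g) (prj_w c g)).naturality m

theorem Cocn.a_res (L : Cocn S c) {i j : I} (g : j ⟶ i) {T : (D.obj j).Etale} {V : (D.obj i).Etale}
    (r : T.left ⟶ V.left) (h : r ≫ V.hom = T.hom ≫ D.map g)
    (m : (EtCoh.bc (prj c j)).obj T ⟶ (EtCoh.bc (prj c i)).obj V)
    (hm : m.left ≫ fstB (prj c i) V = fstB (prj c j) T ≫ r) (s : (S.F i).obj.obj (op V)) :
    (L.a j).hom.app (op T) (S.res g r h s) = L.M.obj.map m.op ((L.a i).hom.app (op V) s) := by
  rw [L.comm g]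
  refine (NatTrans.naturality_apply (L.a j).hom (lift (D.map g) r h).op _).trans ?_
  refine Eq.trans ?_ (Functor.map_comp_apply L.M.obj
    ((join (prj c j) (D.map g) (prj_w c g)).app V).op m.op
    ((L.a j).hom.app (op ((EtCoh.bc (D.map g)).obj V)) ((S.ψ g).hom.app (op V) s)))
  refine congrArg (fun l => L.M.obj.map (Quiver.Hom.op l)
    ((L.a j).hom.app (op ((EtCoh.bc (D.map g)).obj V)) ((S.ψ g).hom.app (op V) s))) ?_
  refine eq_comp_join (prj c j) (D.map g) (prj_w c g) _ m ?_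
  refine Eq.trans ?_ hm.symm
  refine ((Category.assoc _ _ _).symm.trans
    (congrArg (· ≫ fstB (D.map g) V) (fstB_nat (prj c j) (lift (D.map g) r h)))).trans ?_
  exact (Category.assoc _ _ _).trans (congrArg (_ ≫ ·) (lift_fstB _ r h))

theorem Cocn.a_tr (L : Cocn S c) {i j : I} (g : j ⟶ i) (V : (D.obj i).Etale) (s : (S.F i).obj.obj (op V)) :
    (L.a j).hom.app (op ((EtCoh.bc (D.map g)).obj V)) (S.res g (fstB (D.map g) V) (fstB_w (D.map g) V) s) =
      L.M.obj.map (tr c g V).op ((L.a i).hom.app (op V) s) :=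
  L.a_res g _ _ _ (split_fstB _ _ _ _) s

/-- The sheaf computes the colimit of sections over quasi-compact quasi-separated objects. -/
structure Cocn.IsLim (L : Cocn S c) : Prop where
  rep : ∀ (i : I) (V : (D.obj i).Etale), CompactSpace V.left → QuasiSeparatedSpace V.left →
    ∀ x : L.M.obj.obj (op ((EtCoh.bc (prj c i)).obj V)),
      ∃ (j : I) (g : j ⟶ i) (y : (S.F j).obj.obj (op ((EtCoh.bc (D.map g)).obj V))),
        (L.a j).hom.app (op _) y = L.M.obj.map (tr c g V).op x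
  zero : ∀ (i : I) (V : (D.obj i).Etale), CompactSpace V.left → QuasiSeparatedSpace V.left →
    ∀ s : (S.F i).obj.obj (op V), (L.a i).hom.app (op V) s = 0 →
      ∃ (j : I) (g : j ⟶ i), S.res g (fstB (D.map g) V) (fstB_w (D.map g) V) s = 0

end Groth.L27.LimCoh
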