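import Groth.Agent.L27.LimCoh.Canon
import Groth.Agent.L19.Limit.Pullback
import Groth.Agent.L27.Fppf.Limit
import Groth.Agent.L27.Fppf.Pull

/-! # Sections of an inverse image on the limit come from a stage -/

universe u

open CategoryTheory CategoryTheory.Limits AlgebraicGeometry Opposite

set_option backward.isDefEq.respectTransparency.types false
set_option linter.style.haveILetI false
set_option linter.unusedSectionVars false
set_option linter.unusedVariables false

namespace Groth.L27.LimCoh

open Groth.L19.Limit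

variable {I : Type u} [SmallCategory I] {D : I ⥤ Scheme.{u}} (c : Cone D)

section Diag

variable {i : I} (V : (D.obj i).Etale)

/-- The base changes of `V` as schemes over the stage. -/
noncomputable def ovDiag : CategoryTheory.Over i ⥤ CategoryTheory.Over (D.obj i) where
  obj k := Over.mk (pullback.snd (D.map k.hom) V.hom ≫ V.hom)
  map {k l} f := Over.homMk ((bcDiagram D V.hom).map f) ((Category.assoc _ _ _).symm.trans
    (congrArg (· ≫ V.hom) ((pullback.lift_snd _ _ _).trans (Category.comp_id _))))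
  map_id k := Over.OverMorphism.ext ((bcDiagram D V.hom).map_id k)
  map_comp f g := Over.OverMorphism.ext ((bcDiagram D V.hom).map_comp f g)

theorem sq : IsPullback (fstB (prj c i) V) ((EtCoh.bc (prj c i)).obj V).hom V.hom (c.π.app i) :=
  IsPullback.of_hasPullback V.hom (prj c i)

/-- The base change to the limit as a cone. -/
noncomputable def ovCone : Cone (ovDiag V) where
  pt := (Fppf.cT (prj c i)).obj ((EtCoh.bc (prj c i)).obj V)
  π :=
    { app := fun k => Over.homMk (toStage (sq c V) k) ((Category.assoc _ _ _).symm.trans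
        ((congrArg (· ≫ V.hom) (toStage_snd (sq c V) k)).trans (fstB_w (prj c i) V)))
      naturality := fun k l f => Over.OverMorphism.ext ((sqCone (sq c V)).π.naturality f) }

/-- The projection to `V`. -/
noncomputable def ovSnd (k : CategoryTheory.Over i) : (ovDiag V).obj k ⟶ (EtFppf.a (D.obj i)).obj V :=
  Over.homMk (pullback.snd (D.map k.hom) V.hom) rfl

theorem ovSnd_map {k l : CategoryTheory.Over i} (f : k ⟶ l) : (ovDiag V).map f ≫ ovSnd V l = ovSnd V k :=
  Over.OverMorphism.ext ((pullback.lift_snd _ _ _).trans (Category.comp_id _))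

theorem ovCone_snd (k : CategoryTheory.Over i) : (ovCone c V).π.app k ≫ ovSnd V k = Fppf.pr (prj c i) V :=
  Over.OverMorphism.ext (toStage_snd (sq c V) k)

/-- The base change along a transition, in the diagram. -/
noncomputable def sy (k : CategoryTheory.Over i) :
    (Fppf.cT (D.map k.hom)).obj ((EtCoh.bc (D.map k.hom)).obj V) ⟶ (ovDiag V).obj k :=
  Over.homMk (pullbackSymmetry V.hom (D.map k.hom)).hom ((Category.assoc _ _ _).symm.trans
    ((congrArg (· ≫ V.hom) (pullbackSymmetry_hom_comp_snd V.hom (D.map k.hom))).trans pullback.condition))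

theorem sy_snd (k : CategoryTheory.Over i) : sy V k ≫ ovSnd V k = Fppf.pr (D.map k.hom) V :=
  Over.OverMorphism.ext (pullbackSymmetry_hom_comp_snd V.hom (D.map k.hom))

/-- The map induced by the projection to a later stage. -/
noncomputable def ovFst {j : I} (g : j ⟶ i) (W : (D.obj j).Etale) :
    (Fppf.cT (prj c i)).obj ((EtCoh.bc (prj c j)).obj W) ⟶ (Fppf.cT (D.map g)).obj W :=
  Over.homMk (fstB (prj c j) W) ((Category.assoc _ _ _).symm.trans ((congrArg (· ≫ D.map g)
    (fstB_w (prj c j) W)).trans ((Category.assoc _ _ _).trans (congrArg (_ ≫ ·) (prj_w c g)))))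

theorem tr_cone (k : CategoryTheory.Over i) :
    (Fppf.cT (prj c i)).map (tr c k.hom V) ≫ (ovCone c V).π.app k =
      ovFst c k.hom ((EtCoh.bc (D.map k.hom)).obj V) ≫ sy V k := by
  refine Over.OverMorphism.ext (pullback.hom_ext ?_ ?_)
  · refine (Category.assoc _ _ _).trans ((congrArg (_ ≫ ·) (toStage_fst (sq c V) k)).trans ?_)
    refine (Category.assoc _ _ _).symm.trans ((congrArg (· ≫ prj c k.left)
      (MorphismProperty.Over.w (tr c k.hom V))).trans ?_)
    refine Eq.trans ?_ ((Category.assoc _ _ _).trans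
      (congrArg (_ ≫ ·) rfl)).symm
    exact ((congrArg (_ ≫ ·) (pullbackSymmetry_hom_comp_fst V.hom (D.map k.hom))).trans
      (fstB_w (prj c k.left) ((EtCoh.bc (D.map k.hom)).obj V))).symm
  · refine (Category.assoc _ _ _).trans ((congrArg (_ ≫ ·) (toStage_snd (sq c V) k)).trans ?_)
    refine (split_fstB (prj c k.left) (D.map k.hom) (prj_w c k.hom) V).trans ?_
    exact (congrArg (_ ≫ ·) (pullbackSymmetry_hom_comp_snd V.hom (D.map k.hom))).symm.trans
      (Category.assoc _ _ _).symm

variable [IsCofiltered I]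

/-- The cone is a limit. -/
noncomputable def isLimitOvCone (hc : IsLimit c) :
    IsLimit ((CategoryTheory.Over.forget (D.obj i)).mapCone (ovCone c V)) :=
  IsLimit.ofIsoLimit (isLimitSqCone hc (sq c V)) (Cone.ext (Iso.refl _) fun _ => (Category.id_comp _).symm)

variable [∀ (j k : I) (f : j ⟶ k), IsAffineHom (D.map f)]

theorem isAffineHom_ovDiag {k l : CategoryTheory.Over i} (f : k ⟶ l) : IsAffineHom ((ovDiag V).map f).left := by
  haveI : ∀ {j k : I} (f : j ⟶ k), IsAffineHom (D.map f) := inferInstance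
  exact inferInstanceAs (IsAffineHom ((bcDiagram D V.hom).map f))

theorem compactSpace_ovDiag [CompactSpace V.left] (k : CategoryTheory.Over i) :
    CompactSpace ((ovDiag V).obj k).left :=
  haveI : CompactSpace ↥((𝟭 Scheme.{u}).obj V.left) := ‹CompactSpace V.left›
  QuasiCompact.compactSpace_of_compactSpace (X := pullback (D.map k.hom) V.hom) (pullback.snd (D.map k.hom) V.hom)

theorem quasiSeparatedSpace_ovDiag [QuasiSeparatedSpace V.left] (k : CategoryTheory.Over i) :
    QuasiSeparatedSpace ((ovDiag V).obj k).left :=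
  haveI : QuasiSeparatedSpace ↥((𝟭 Scheme.{u}).obj V.left) := ‹QuasiSeparatedSpace V.left›
  quasiSeparatedSpace_of_quasiSeparated (X := pullback (D.map k.hom) V.hom) (pullback.snd (D.map k.hom) V.hom)

end Diag

variable (S : Sys D)

/-- The big sheaf over a transition maps to the big sheaf over the projection. -/
noncomputable def gam {i j : I} (g : j ⟶ i) :
    Fppf.GT (D.map g) (S.F i) ⟶ (EtCoh.push (prj c j)).obj (Fppf.GT (prj c i) (S.F i)) :=
  ObjectProperty.homMk
    { app := fun W => (Fppf.G (S.F i)).obj.map (ovFst c g W.unop).op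
      naturality := fun W W' m => by
        refine ((Fppf.G (S.F i)).obj.map_comp _ _).symm.trans (Eq.trans ?_ ((Fppf.G (S.F i)).obj.map_comp _ _))
        refine congrArg (fun l => (Fppf.G (S.F i)).obj.map (Quiver.Hom.op l)) (Over.OverMorphism.ext ?_)
        exact (fstB_nat (prj c j) m.unop).symm }

theorem bij_theta {X T : Scheme.{u}} (f : T ⟶ X) (F : EtCoh.Ab X) (W : T.Etale) :
    Function.Bijective ((Fppf.theta f F).hom.app (op W)) := by
  haveI := Fppf.isIso_theta f F
  haveI : IsIso (Fppf.theta f F).hom := inferInstanceAs (IsIso ((sheafToPresheaf _ _).map (Fppf.theta f F)))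
  exact ConcreteCategory.bijective_of_isIso _

/-- The two ways of sending sections over a transition to the limit. -/
theorem kappa_eta {i j : I} (g : j ⟶ i) (W : (D.obj j).Etale)
    (z : ((EtCoh.pull (D.map g)).obj (S.F i)).obj.obj (op W))
    (y : ((EtCoh.pull (prj c i)).obj (S.F i)).obj.obj (op ((EtCoh.bc (prj c j)).obj W)))
    (hy : (Fppf.theta (prj c i) (S.F i)).hom.app (op _) y =
      (Fppf.G (S.F i)).obj.map (ovFst c g W).op ((Fppf.theta (D.map g) (S.F i)).hom.app (op W) z)) :
    (eta c S j).hom.app (op W) ((((EtCoh.pullPushAdj (D.map g)).homEquiv _ _).symm (S.ψ g)).hom.app (op W) z) =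
      (pullMap c S g).hom.app (op ((EtCoh.bc (prj c j)).obj W)) y := by
  haveI := Fppf.isIso_theta (prj c i) (S.F i)
  let Φ : (EtCoh.pull (D.map g)).obj (S.F i) ⟶ (EtCoh.push (prj c j)).obj ((EtCoh.pull (prj c j)).obj (S.F j)) :=
    Fppf.theta (D.map g) (S.F i) ≫ gam c S g ≫
      (EtCoh.push (prj c j)).map (inv (Fppf.theta (prj c i) (S.F i)) ≫ pullMap c S g)
  have hinv : ∀ (Q : c.pt.Etale) (a : ((EtCoh.pull (prj c i)).obj (S.F i)).obj.obj (op Q)),
      (inv (Fppf.theta (prj c i) (S.F i))).hom.app (op Q) ((Fppf.theta (prj c i) (S.F i)).hom.app (op Q) a) = a :=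
    fun Q a => congrArg (fun m => m.hom.app (op Q) a) (IsIso.hom_inv_id (Fppf.theta (prj c i) (S.F i)))
  have h : ((EtCoh.pullPushAdj (D.map g)).homEquiv _ _).symm (S.ψ g) ≫ eta c S j = Φ := by
    refine ((EtCoh.pullPushAdj (D.map g)).homEquiv _ _).injective ?_
    rw [Adjunction.homEquiv_naturality_right, Equiv.apply_symm_apply, Adjunction.homEquiv_unit]
    refine ObjectProperty.hom_ext _ (NatTrans.ext (funext fun U => ConcreteCategory.hom_ext _ _ fun s => ?_))
    have e1 : (gam c S g).hom.app (op ((EtCoh.bc (D.map g)).obj U.unop))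
        ((Fppf.theta (D.map g) (S.F i)).hom.app (op _)
          (((EtCoh.pullPushAdj (D.map g)).unit.app (S.F i)).hom.app (op U.unop) s)) =
        (Fppf.theta (prj c i) (S.F i)).hom.app (op _)
          (((EtCoh.pull (prj c i)).obj (S.F i)).obj.map (tr c g U.unop).op ((eta c S i).hom.app (op U.unop) s)) := by
      refine (congrArg ((Fppf.G (S.F i)).obj.map (ovFst c g _).op) (Fppf.theta_eta (D.map g) (S.F i) U.unop s)).trans ?_
      refine (Fppf.e_map (S.F i) _ _ _).trans (Eq.trans ?_ (Fppf.theta_map_eta (prj c i) (S.F i) _ s).symm)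
      refine congrArg (fun l => Fppf.e (S.F i) l s) (Over.OverMorphism.ext ?_)
      exact (split_fstB (prj c j) (D.map g) (prj_w c g) U.unop).symm
    refine Eq.trans ?_ (congrArg (fun a => (pullMap c S g).hom.app (op _)
      ((inv (Fppf.theta (prj c i) (S.F i))).hom.app (op _) a)) e1).symm
    refine Eq.trans ?_ (congrArg ((pullMap c S g).hom.app (op _)) (hinv _ _)).symm
    refine Eq.trans ?_ (NatTrans.naturality_apply (pullMap c S g).hom (tr c g U.unop).op _).symm
    refine Eq.trans ?_ (congrArg (((EtCoh.pull (prj c j)).obj (S.F j)).obj.map (tr c g U.unop).op)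
      (pullMap_eta c S g U.unop s)).symm
    refine Eq.trans ?_ (Functor.map_comp_apply ((EtCoh.pull (prj c j)).obj (S.F j)).obj _ _ _)
    exact ((congrArg (fun l => ((EtCoh.pull (prj c j)).obj (S.F j)).obj.map (Quiver.Hom.op l)
      ((eta c S j).hom.app (op ((EtCoh.bc (D.map g)).obj U.unop)) ((S.ψ g).hom.app (op U.unop) s)))
      (split_join (prj c j) (D.map g) (prj_w c g) U.unop)).trans
        (congr($(((EtCoh.pull (prj c j)).obj (S.F j)).obj.map_id _) _))).symm
  refine (congrArg (fun m => m.hom.app (op W) z) h).trans ?_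
  show (pullMap c S g).hom.app _ ((inv (Fppf.theta (prj c i) (S.F i))).hom.app _
    ((Fppf.G (S.F i)).obj.map (ovFst c g W).op ((Fppf.theta (D.map g) (S.F i)).hom.app (op W) z))) = _
  exact (congrArg (fun a => (pullMap c S g).hom.app (op _)
    ((inv (Fppf.theta (prj c i) (S.F i))).hom.app (op _) a)) hy.symm).trans
      (congrArg ((pullMap c S g).hom.app (op _)) (hinv _ y))

variable [IsCofiltered I] [∀ (j k : I) (f : j ⟶ k), IsAffineHom (D.map f)] (hc : IsLimit c)

include hc in
/-- A section vanishing on the limit vanishes at some stage. -/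
theorem exists_res_eq_zero {i : I} (V : (D.obj i).Etale) [CompactSpace V.left]
    (s : (S.F i).obj.obj (op V)) (h : (eta c S i).hom.app (op V) s = 0) :
    ∃ (j : I) (g : j ⟶ i), S.res g (fstB (D.map g) V) (fstB_w (D.map g) V) s = 0 := by
  haveI : ∀ (j k : CategoryTheory.Over i) (f : j ⟶ k), IsAffineHom ((ovDiag V).map f).left :=
    fun _ _ f => isAffineHom_ovDiag V f
  haveI : ∀ j, CompactSpace ((ovDiag V).obj j).left := compactSpace_ovDiag V
  have h0 : Fppf.e (S.F i) (Fppf.pr (prj c i) V) s = 0 :=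
    (Fppf.theta_eta (prj c i) (S.F i) V s).symm.trans ((congrArg _ h).trans (map_zero _))
  obtain ⟨k, f, hk⟩ := Fppf.Lim.exists_map_eq_zero (S.F i) (ovDiag V) (ovCone c V) (isLimitOvCone c V hc)
    (i := CategoryTheory.Over.mk (𝟙 i)) (Fppf.e (S.F i) (ovSnd V _) s)
    ((Fppf.e_map (S.F i) _ _ _).trans ((congrArg (fun l => Fppf.e (S.F i) l s) (ovCone_snd c V _)).trans h0))
  have hk' : Fppf.e (S.F i) (ovSnd V k) s = 0 := by
    rw [← ovSnd_map V f, ← Fppf.e_map]; exact hk
  have hu : ((EtCoh.pullPushAdj (D.map k.hom)).unit.app (S.F i)).hom.app (op V) s = 0 := by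
    refine (bij_theta (D.map k.hom) (S.F i) _).1 (Eq.trans ?_ (map_zero _).symm)
    refine (Fppf.theta_eta (D.map k.hom) (S.F i) V s).trans ?_
    rw [← sy_snd V k, ← Fppf.e_map, hk', map_zero]
    rfl
  have hψ : (S.ψ k.hom).hom.app (op V) s = 0 := by
    refine Eq.trans ?_ ((congrArg (((((EtCoh.pullPushAdj (D.map k.hom)).homEquiv _ _).symm (S.ψ k.hom))).hom.app
      (op ((EtCoh.bc (D.map k.hom)).obj V))) hu).trans (map_zero _))
    exact congrArg (fun m => m.hom.app (op V) s)
      ((Equiv.apply_symm_apply _ (S.ψ k.hom)).symm.trans ((EtCoh.pullPushAdj (D.map k.hom)).homEquiv_unit _ _ _))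
  exact ⟨k.left, k.hom, (congrArg ((S.F k.left).obj.map _) hψ).trans (map_zero _)⟩

include hc in
/-- A section of an inverse image on the limit comes from some stage. -/
theorem exists_res_eq {i : I} (V : (D.obj i).Etale) [CompactSpace V.left] [QuasiSeparatedSpace V.left]
    (y : ((EtCoh.pull (prj c i)).obj (S.F i)).obj.obj (op ((EtCoh.bc (prj c i)).obj V))) :
    ∃ (j : I) (g : j ⟶ i) (z : (S.F j).obj.obj (op ((EtCoh.bc (D.map g)).obj V))),
      (eta c S j).hom.app (op _) z =
        ((EtCoh.pull (prj c j)).obj (S.F j)).obj.map (tr c g V).op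
          ((pullMap c S g).hom.app (op ((EtCoh.bc (prj c i)).obj V)) y) := by
  haveI : ∀ (j k : CategoryTheory.Over i) (f : j ⟶ k), IsAffineHom ((ovDiag V).map f).left :=
    fun _ _ f => isAffineHom_ovDiag V f
  haveI : ∀ j, CompactSpace ((ovDiag V).obj j).left := compactSpace_ovDiag V
  haveI : ∀ j, QuasiSeparatedSpace ((ovDiag V).obj j).left := quasiSeparatedSpace_ovDiag V
  obtain ⟨k, w, hw⟩ := Fppf.Lim.exists_stage (S.F i) (ovDiag V) (ovCone c V) (isLimitOvCone c V hc)
    ((Fppf.theta (prj c i) (S.F i)).hom.app (op ((EtCoh.bc (prj c i)).obj V)) y)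
  obtain ⟨z, hz⟩ := (bij_theta (D.map k.hom) (S.F i) _).2 ((Fppf.G (S.F i)).obj.map (sy V k).op w)
  refine ⟨k.left, k.hom, (((EtCoh.pullPushAdj (D.map k.hom)).homEquiv _ _).symm (S.ψ k.hom)).hom.app (op _) z, ?_⟩
  refine (kappa_eta c S k.hom _ z (((EtCoh.pull (prj c i)).obj (S.F i)).obj.map (tr c k.hom V).op y) ?_).trans
    (NatTrans.naturality_apply (pullMap c S k.hom).hom (tr c k.hom V).op y)
  refine (NatTrans.naturality_apply (Fppf.theta (prj c i) (S.F i)).hom (tr c k.hom V).op y).trans ?_
  refine ((congrArg ((Fppf.G (S.F i)).obj.map ((Fppf.cT (prj c i)).map (tr c k.hom V)).op) hw).symm.trans ?_)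
  refine Eq.trans ?_ (congrArg ((Fppf.G (S.F i)).obj.map (ovFst c k.hom _).op) hz).symm
  refine (Functor.map_comp_apply (Fppf.G (S.F i)).obj _ _ w).symm.trans
    (Eq.trans ?_ (Functor.map_comp_apply (Fppf.G (S.F i)).obj _ _ w))
  exact congrArg (fun l => (Fppf.G (S.F i)).obj.map (Quiver.Hom.op l) w) (tr_cone c V k)

end Groth.L27.LimCoh
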